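import Groth.Agent.PicBdd.Union
import Groth.Agent.TMul.Pullback
import Groth.Agent.GrT.Vanish
import Groth.Agent.CohFinite.Serre

/-!
Sums and invertible twists of bounded families; bounded families on the empty scheme.
-/

set_option autoImplicit false
set_option backward.isDefEq.respectTransparency false
set_option backward.isDefEq.respectTransparency.types false
set_option linter.style.haveILetI false
set_option linter.unusedSectionVars false

universe u

open CategoryTheory CategoryTheory.Limits AlgebraicGeometry TopologicalSpace Opposite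

noncomputable section

namespace Groth.Agent.PicProp

attribute [local instance] Abelian.hasFiniteBiproducts

variable (k : Type u) [Field k] {X : Scheme.{u}} [X.Over (Spec (CommRingCat.of k))]
  [IsProper (X ↘ Spec (CommRingCat.of k))]

/-- Sums of members of two bounded families form a bounded family. -/
theorem isBounded_biprod {P Q : X.Modules → Prop} (hP : Pic13.IsBounded k X P) (hQ : Pic13.IsBounded k X Q) :
    Pic13.IsBounded k X (fun N => ∃ A B, P A ∧ Q B ∧ Nonempty (A ⊞ B ≅ N)) := by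
  obtain ⟨T₁, q₁, hl₁, hc₁, F₁, hF₁, hf₁⟩ := hP
  obtain ⟨T₂, q₂, hl₂, hc₂, F₂, hF₂, hf₂⟩ := hQ
  haveI := hl₁
  haveI := hc₁
  haveI := hl₂
  haveI := hc₂
  let T := pullback q₁ q₂
  let q : T ⟶ Spec (CommRingCat.of k) := pullback.fst q₁ q₂ ≫ q₁
  haveI : LocallyOfFiniteType q := inferInstance
  haveI : IsLocallyNoetherian (Pic13.prodK k X q) :=
    LocallyOfFiniteType.isLocallyNoetherian (pullback.snd (X ↘ Spec (CommRingCat.of k)) q ≫ q)
  let J₁ := PicBdd.prodMap k (X := X) (pullback.fst q₁ q₂) (q := q₁) (q' := q) rfl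
  let J₂ := PicBdd.prodMap k (X := X) (pullback.snd q₁ q₂) (q := q₂) (q' := q) pullback.condition.symm
  refine ⟨T, q, inferInstance, inferInstance, (Scheme.Modules.pullback J₁).obj F₁ ⊞ (Scheme.Modules.pullback J₂).obj F₂,
    CurveRR.isCoh_biprod2 (QC.isCoh_pullback J₁ hF₁) (QC.isCoh_pullback J₂ hF₂), ?_⟩
  rintro N ⟨A, B, hA, hB, ⟨e⟩⟩
  obtain ⟨t₁, ht₁, ⟨e₁⟩⟩ := hf₁ A hA
  obtain ⟨t₂, ht₂, ⟨e₂⟩⟩ := hf₂ B hB
  let t := pullback.lift t₁ t₂ (ht₁.trans ht₂.symm)
  have ht : t ≫ q = 𝟙 _ := by rw [← Category.assoc, pullback.lift_fst, ht₁]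
  have h1 : (t ≫ pullback.fst q₁ q₂) ≫ q₁ = 𝟙 _ := by rw [Category.assoc]; exact ht
  have h2 : (t ≫ pullback.snd q₁ q₂) ≫ q₂ = 𝟙 _ := by rw [pullback.lift_snd, ht₂]
  have key₁ : ∀ t' (ht' : t' ≫ q₁ = 𝟙 _), t' = t₁ → Nonempty (Pic13.fibreMod k X q₁ t' ht' F₁ ≅ A) := by
    rintro t' ht' rfl; exact ⟨e₁⟩
  have key₂ : ∀ t' (ht' : t' ≫ q₂ = 𝟙 _), t' = t₂ → Nonempty (Pic13.fibreMod k X q₂ t' ht' F₂ ≅ B) := by
    rintro t' ht' rfl; exact ⟨e₂⟩
  obtain ⟨a⟩ := PicBdd.nonempty_fibreMod_pullback (X := X) k (pullback.fst q₁ q₂) (q' := q) rfl t ht h1 F₁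
  obtain ⟨b⟩ := PicBdd.nonempty_fibreMod_pullback (X := X) k (pullback.snd q₁ q₂) (q' := q)
    pullback.condition.symm t ht h2 F₂
  obtain ⟨a'⟩ := key₁ _ h1 (pullback.lift_fst _ _ _)
  obtain ⟨b'⟩ := key₂ _ h2 (pullback.lift_snd _ _ _)
  haveI : PreservesBinaryBiproducts (Scheme.Modules.pullback (Pic13.sliceAt k X q t ht)) :=
    preservesBinaryBiproducts_of_preservesBinaryCoproducts _
  exact ⟨t, ht, ⟨(Scheme.Modules.pullback (Pic13.sliceAt k X q t ht)).mapBiprod _ _ ≪≫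
    biprod.mapIso (a ≪≫ a') (b ≪≫ b') ≪≫ e⟩⟩

/-- Twists of a bounded family by a fixed invertible module form a bounded family. -/
theorem isBounded_twist {P : X.Modules → Prop} (hP : Pic13.IsBounded k X P) {A : X.Modules}
    (hA : PicF.IsInvertible A) :
    Pic13.IsBounded k X (fun N => ∃ M, P M ∧ Nonempty (CohB1.tensorMod M A ≅ N)) := by
  obtain ⟨T, q, hl, hc, F, hF, hf⟩ := hP
  haveI := hl
  haveI : IsLocallyNoetherian (Pic13.prodK k X q) :=
    LocallyOfFiniteType.isLocallyNoetherian (pullback.snd (X ↘ Spec (CommRingCat.of k)) q ≫ q)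
  let p := pullback.fst (X ↘ Spec (CommRingCat.of k)) q
  refine ⟨T, q, hl, hc, CohB1.tensorMod F ((Scheme.Modules.pullback p).obj A),
    CohFinite.isCoh_tensor hF (PicLoc.isInvertible_pullback p hA), ?_⟩
  rintro N ⟨M, hM, ⟨e⟩⟩
  obtain ⟨t, ht, ⟨a⟩⟩ := hf M hM
  obtain ⟨s⟩ := TMul.nonempty_pullTensorIso (Pic13.sliceAt k X q t ht) F ((Scheme.Modules.pullback p).obj A)
  have hσ : Pic13.sliceAt k X q t ht ≫ p = 𝟙 X := pullback.lift_fst _ _ _
  refine ⟨t, ht, ⟨s.symm ≪≫ PicGrp.tensorModIso a ?_ ≪≫ e⟩⟩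
  exact (Scheme.Modules.pullbackComp _ p).app A ≪≫ (Scheme.Modules.pullbackCongr hσ).app A ≪≫
    (Scheme.Modules.pullbackId X).app A

/-- Every family on the empty scheme is bounded. -/
theorem isBounded_of_isEmpty [IsEmpty X] (P : X.Modules → Prop) : Pic13.IsBounded k X P := by
  haveI : IsLocallyNoetherian (Pic13.prodK k X (𝟙 (Spec (CommRingCat.of k)))) :=
    LocallyOfFiniteType.isLocallyNoetherian (pullback.snd (X ↘ Spec (CommRingCat.of k)) _)
  refine ⟨_, 𝟙 _, inferInstance, inferInstance, Coh.structureModule _,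
    CurveRR.isCoh_of_inv (TMul.isInvertible_structureModule (X := _)), fun L _ => ⟨𝟙 _, Category.id_comp _, ⟨?_⟩⟩⟩
  exact (GrT.isZero_modules_of_subsingleton fun U s =>
      Groth.Agent.QC.section_eq_of_locally fun x _ => (IsEmpty.false x).elim).iso
    (GrT.isZero_modules_of_subsingleton fun U s =>
      Groth.Agent.QC.section_eq_of_locally fun x _ => (IsEmpty.false x).elim)

end Groth.Agent.PicProp
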