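import Groth.Agent.PicProp.SecBC
import Groth.Agent.PicBdd.Strata
import Groth.Agent.PicBdd.Union
import Groth.Agent.PicBdd.Universal
import Groth.Agent.GenFree.Main
import Groth.Agent.CohFinite.Proper

/-!
Boundedness by generic arguments over the base: it suffices to treat a non-empty basic open of every
affine integral scheme mapping to the parameter scheme.  Generic flatness of the cohomology.
-/

set_option autoImplicit false
set_option backward.isDefEq.respectTransparency false
set_option backward.isDefEq.respectTransparency.types false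
set_option linter.style.haveILetI false
set_option linter.unusedSectionVars false
set_option maxHeartbeats 1000000

universe u

open CategoryTheory CategoryTheory.Limits AlgebraicGeometry TopologicalSpace Opposite
open scoped TensorProduct

noncomputable section

namespace Groth.Agent.PicProp

section Strata

variable (k : Type u) [Field k] {Z : Scheme.{u}} [Z.Over (Spec (CommRingCat.of k))]
  [IsProper (Z ↘ Spec (CommRingCat.of k))]

/-- The localisation at an element, as a morphism of spectra. -/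
abbrev awayι {A : Type u} [CommRing A] (a : A) :
    Spec (CommRingCat.of (Localization.Away a)) ⟶ Spec (CommRingCat.of A) :=
  Spec.map (CommRingCat.ofHom (algebraMap A (Localization.Away a)))

/-- Boundedness follows from boundedness over a non-empty basic open of every integral affine scheme
mapping to the base. -/
theorem isBounded_of_generic {T : Scheme.{u}} (q : T ⟶ Spec (CommRingCat.of k)) [LocallyOfFiniteType q]
    [QuasiCompact q] (B : (Spec (CommRingCat.of k) ⟶ T) → Z.Modules → Prop)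
    (H : ∀ (A : Type u) [CommRing A] [IsDomain A] (j : Spec (CommRingCat.of A) ⟶ T),
      LocallyOfFiniteType (j ≫ q) → ∃ a : A, a ≠ 0 ∧ Pic13.IsBounded k Z (fun N =>
        ∃ s : Spec (CommRingCat.of k) ⟶ Spec (CommRingCat.of (Localization.Away a)),
          s ≫ awayι a ≫ j ≫ q = 𝟙 _ ∧ B (s ≫ awayι a ≫ j) N)) :
    Pic13.IsBounded k Z (fun N => ∃ t, t ≫ q = 𝟙 _ ∧ B t N) := by
  classical
  haveI : IsLocallyNoetherian T := LocallyOfFiniteType.isLocallyNoetherian q
  haveI : CompactSpace T := QuasiCompact.compactSpace_of_compactSpace q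
  haveI : IsNoetherian T := {}
  let x₀ : ↑(Spec (CommRingCat.of k)) := (⊥ : PrimeSpectrum k)
  suffices h : ∀ C : Closeds T,
      Pic13.IsBounded k Z (fun N => ∃ t, t ≫ q = 𝟙 _ ∧ t.base x₀ ∈ (C : Set T) ∧ B t N) from
    PicBdd.isBounded_mono k (h ⟨Set.univ, isClosed_univ⟩) fun N ⟨t, ht, hB⟩ => ⟨t, ht, trivial, hB⟩
  intro C
  induction C using (wellFounded_lt (α := Closeds T)).induction with
  | _ C ih =>
  by_cases hne : (C : Set T).Nonempty
  swap
  · exact PicBdd.isBounded_mono k (PicBdd.isBounded_false k) fun N ⟨t, _, hm, _⟩ => hne ⟨_, hm⟩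
  by_cases hirr : IsPreirreducible (C : Set T)
  swap
  · rw [isPreirreducible_iff_isClosed_union_isClosed] at hirr
    simp only [not_forall, exists_prop, not_or] at hirr
    obtain ⟨D, E, hD, hE, hCDE, hCD, hCE⟩ := hirr
    have hlt : ∀ (F : Set T) (hF : IsClosed F), ¬ (C : Set T) ⊆ F →
        (⟨F ∩ C, hF.inter C.isClosed⟩ : Closeds T) < C := fun F hF hCF =>
      lt_of_le_not_ge Set.inter_subset_right fun hle => hCF fun a ha => (hle ha).1
    refine PicBdd.isBounded_mono k (PicBdd.isBounded_or k (ih _ (hlt D hD hCD)) (ih _ (hlt E hE hCE)))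
      fun N ⟨t, ht, hm, hB⟩ => ?_
    rcases hCDE hm with h | h
    · exact Or.inl ⟨t, ht, ⟨h, hm⟩, hB⟩
    · exact Or.inr ⟨t, ht, ⟨h, hm⟩, hB⟩
  have hC : IsIrreducible (C : Set T) := ⟨hne, hirr⟩
  let I := Scheme.IdealSheafData.vanishingIdeal C
  let Y := I.subscheme
  let ι : Y ⟶ T := I.subschemeι
  have hιr : Set.range ι = (C : Set T) := DvrDom.range_vanishingIdeal_subschemeι C
  haveI : IsReduced Y := DvrDom.isReduced_vanishingIdeal_subscheme C
  haveI : IrreducibleSpace Y := PicBdd.irreducibleSpace_of_range ι.isClosedEmbedding.isInducing hC hιr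
  haveI : AlgebraicGeometry.IsIntegral Y := isIntegral_of_irreducibleSpace_of_isReduced Y
  obtain ⟨y⟩ := (inferInstance : Nonempty Y)
  obtain ⟨V, hV, hyV, -⟩ := exists_isAffineOpen_mem_and_subset (X := Y) (x := y) (U := ⊤) trivial
  haveI : Nonempty V := ⟨⟨y, hyV⟩⟩
  let j : Spec (CommRingCat.of Γ(Y, V)) ⟶ T := hV.fromSpec ≫ ι
  have hjq : LocallyOfFiniteType (j ≫ q) := by
    haveI : LocallyOfFiniteType j := inferInstanceAs (LocallyOfFiniteType (hV.fromSpec ≫ ι))
    infer_instance
  obtain ⟨a, ha, hbd⟩ := H Γ(Y, V) j hjq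
  let O : Y.Opens := Y.basicOpen a
  have hO : (O : Set Y).Nonempty := by
    rw [Set.nonempty_iff_ne_empty]
    intro hempty
    exact ha ((AlgebraicGeometry.basicOpen_eq_bot_iff a).mp (SetLike.ext' hempty))
  have hr0 : Set.range (awayι (A := Γ(Y, V)) a ≫ hV.fromSpec).base = (O : Set Y) := by
    rw [Scheme.Hom.comp_base, TopCat.coe_comp, Set.range_comp]
    refine Eq.trans ?_ (congrArg SetLike.coe (hV.fromSpec_image_basicOpen a))
    exact congrArg (hV.fromSpec.base '' ·) (PrimeSpectrum.localization_away_comap_range _ a)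
  haveI : IsOpenImmersion (awayι (A := Γ(Y, V)) a) := inferInstance
  obtain ⟨Ω, hΩ, hΩO⟩ := ι.isClosedEmbedding.isInducing.isOpen_iff.1 O.2
  have hlt : (⟨(C : Set T) \ Ω, C.isClosed.sdiff hΩ⟩ : Closeds T) < C := by
    refine lt_of_le_not_ge Set.diff_subset fun hle => ?_
    obtain ⟨z, hz⟩ := hO
    exact (hle (hιr.subset ⟨z, rfl⟩ : ι z ∈ (C : Set T))).2 (hΩO.symm.subset hz)
  refine PicBdd.isBounded_mono k (PicBdd.isBounded_or k hbd (ih _ hlt)) fun N ⟨t, ht, hm, hB⟩ => ?_
  by_cases hO' : t.base x₀ ∈ Ω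
  swap
  · exact Or.inr ⟨t, ht, ⟨hm, hO'⟩, hB⟩
  haveI : Subsingleton ↑(Spec (CommRingCat.of k)) := inferInstanceAs (Subsingleton (PrimeSpectrum k))
  obtain ⟨τ, hτ⟩ := RedSepLib.exists_lift_of_isReduced t ι (by
    rintro _ ⟨w, rfl⟩
    rw [hιr, Subsingleton.elim w x₀]
    exact hm)
  have hr : Set.range τ.base ⊆ Set.range (awayι (A := Γ(Y, V)) a ≫ hV.fromSpec).base := by
    rintro _ ⟨w, rfl⟩
    rw [hr0, Subsingleton.elim w x₀]
    refine hΩO.subset ?_
    show ι (τ.base x₀) ∈ Ω
    rwa [show ι (τ.base x₀) = t.base x₀ from congrArg (fun f => f.base x₀) hτ]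
  let s := IsOpenImmersion.lift (awayι (A := Γ(Y, V)) a ≫ hV.fromSpec) τ hr
  have hs : s ≫ awayι (A := Γ(Y, V)) a ≫ j = t := by
    simp only [j]
    rw [← Category.assoc (awayι (A := Γ(Y, V)) a), ← Category.assoc s, IsOpenImmersion.lift_fac, hτ]
  refine Or.inl ⟨s, ?_, hs.symm ▸ hB⟩
  rw [← ht, ← hs]
  simp only [Category.assoc]

end Strata

section Points

variable {k : Type u} [Field k] {S : Scheme.{u}} (q : S ⟶ Spec (CommRingCat.of k))

/-- Functions restrict surjectively to a rational point. -/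
theorem surjective_appLE_point (t : Spec (CommRingCat.of k) ⟶ S) (ht : t ≫ q = 𝟙 _) :
    Function.Surjective (t.appLE ⊤ ⊤ le_top).hom := by
  intro b
  refine ⟨(q.appLE ⊤ ⊤ le_top).hom b, ?_⟩
  have h : q.appLE ⊤ ⊤ le_top ≫ t.appLE ⊤ ⊤ le_top = 𝟙 _ := by
    rw [Scheme.Hom.appLE_comp_appLE, Scheme.Hom.appLE]
    erw [Scheme.Hom.congr_app ht ⊤]
    simp
  exact ConcreteCategory.congr_hom h b

end Points

section GenHH

variable {A : Type u} [CommRing A] [IsDomain A] [IsNoetherianRing A] {X : Scheme.{u}}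

/-- Generic flatness of a coherent module and of its cohomology on an open proper over an algebra of
finite type. -/
theorem exists_flat_hh (f : X ⟶ Spec (CommRingCat.of A)) [LocallyOfFiniteType f] [QuasiCompact f]
    (F : X.Modules) (hF : Coh.IsCoh F) (W : X.Opens) {R : Type u} [CommRing R] [Algebra A R]
    [Algebra.FiniteType A R] (p : W.toScheme ⟶ Spec (CommRingCat.of R)) [IsProper p]
    (hp : p ≫ Spec.map (CommRingCat.ofHom (algebraMap A R)) = W.ι ≫ f) :
    ∃ c : A, c ≠ 0 ∧ ∀ (a : A), c ∣ a →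
      ∀ {X' : Scheme.{u}} (g' : X' ⟶ X) (f' : X' ⟶ Spec (CommRingCat.of (Localization.Away a))),
      IsPullback g' f' f (awayι a) →
      FlatMod.IsFlatOver f' ((Scheme.Modules.pullback g').obj F) ∧ IsCompact ((g' ⁻¹ᵁ W : X'.Opens) : Set X') ∧
      IsSeparated ((g' ⁻¹ᵁ W).ι ≫ f') ∧
      ∀ h : g' ⁻¹ᵁ W ≤ f' ⁻¹ᵁ ⊤,
        letI : (g' ⁻¹ᵁ W).toScheme.Over (Spec (CommRingCat.of Γ(Spec (CommRingCat.of (Localization.Away a)), ⊤))) :=
          ⟨f'.resLE ⊤ (g' ⁻¹ᵁ W) h ≫ (isAffineOpen_top _).isoSpec.hom⟩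
        ∀ n : ℕ, Module.Flat Γ(Spec (CommRingCat.of (Localization.Away a)), ⊤)
          (Coh.HH (g' ⁻¹ᵁ W).toScheme (((Scheme.Modules.pullback g').obj F).restrict (g' ⁻¹ᵁ W).ι) n) := by
  classical
  haveI := hF.1
  haveI : IsNoetherianRing R := Algebra.FiniteType.isNoetherianRing A R
  haveI : IsSeparated (W.ι ≫ f) := by rw [← hp]; infer_instance
  haveI : QuasiCompact (W.ι ≫ f) := by rw [← hp]; infer_instance
  haveI : CompactSpace W.toScheme := QuasiCompact.compactSpace_of_compactSpace (W.ι ≫ f)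
  haveI : W.toScheme.IsSeparated := by
    constructor
    rw [← terminal.comp_from (W.ι ≫ f)]
    infer_instance
  haveI : IsLocallyNoetherian W.toScheme := LocallyOfFiniteType.isLocallyNoetherian p
  have hFW : Coh.IsCoh (F.restrict W.ι) := QC.isCoh_pullback W.ι hF |> CohFinite.isCoh_of_iso ((Scheme.Modules.restrictFunctorIsoPullback W.ι).app F).symm
  -- cohomology of the open over both rings
  letI : W.toScheme.Over (Spec (CommRingCat.of A)) := ⟨W.ι ≫ f⟩
  letI : W.toScheme.Over (Spec (CommRingCat.of R)) := ⟨p⟩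
  haveI : IsProper (W.toScheme ↘ Spec (CommRingCat.of R)) := inferInstanceAs (IsProper p)
  obtain ⟨ι, hι, 𝒰, h𝒰, hcov⟩ := W7Cech.exists_cover W.toScheme
  haveI := hι
  have h𝒰1 : ∀ i, IsAffineOpen (𝒰 i) := fun i => by
    have := h𝒰 0 fun _ => i
    rwa [SiteCoh.tupleProd_eq_iInf, iInf_const] at this
  let M : ℕ → Type u := fun n => Coh.HH W.toScheme (F.restrict W.ι) n
  haveI : ∀ n, IsScalarTower A R (M n) := fun n => IsScalarTower.of_algebraMap_smul fun r x => by
    change Coh.toGlobal p (algebraMap A R r) • (show Coh.HH W.toScheme (F.restrict W.ι) n from x) =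
      Coh.toGlobal (W.ι ≫ f) r • (show Coh.HH W.toScheme (F.restrict W.ι) n from x)
    rw [← hp, PicBdd.toGlobal_specMap]
  haveI : ∀ n, Module.Finite R (M n) := fun n => CohFinite.finite_proper R W.toScheme _ hFW n
  have hgf : ∀ n, ∃ c : A, c ≠ 0 ∧ Module.Free (Localization.Away c) (Localization.Away c ⊗[A] M n) := fun n => by
    obtain ⟨c, hc, hfree, -⟩ := GenFree.generic_freeness (R := A) (S := R) (M := M n)
    exact ⟨c, hc, hfree⟩
  choose c hc hfree using hgf
  obtain ⟨U, hU, hflat⟩ := FlatModBC.exists_opens_flatAt f F hF.2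
  obtain ⟨b, hb, hbU⟩ : ∃ b : A, b ≠ 0 ∧ ∀ x : Spec (CommRingCat.of A), x ∈ PrimeSpectrum.basicOpen b → x ∈ U := by
    obtain ⟨z, hz⟩ := hU
    obtain ⟨_, ⟨b, rfl⟩, hzb, hbU⟩ :=
      PrimeSpectrum.isTopologicalBasis_basic_opens.exists_subset_of_mem_open hz U.2
    refine ⟨b, fun h0 => ?_, fun x hx => hbU hx⟩
    subst h0
    simp at hzb
  let a₀ := b * ∏ n ∈ Finset.range (Nat.card ι), c n
  have ha : a₀ ≠ 0 := mul_ne_zero hb (Finset.prod_ne_zero_iff.mpr fun n _ => hc n)
  refine ⟨a₀, ha, fun a haa {X'} g' f' sq => ?_⟩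
  refine ⟨fun x => FlatModBC.isFlatOverAt_baseChange sq F x (hflat _ (hbU _ ?_)), ?_⟩
  · rw [show f.base (g'.base x) = (awayι a).base (f'.base x) from congrArg (fun φ => φ.base x) sq.w]
    have hx : (awayι a).base (f'.base x) ∈ PrimeSpectrum.basicOpen a :=
      (PrimeSpectrum.localization_away_comap_range (Localization.Away a) a).le ⟨f'.base x, rfl⟩
    obtain ⟨e, rfl⟩ := (Dvd.intro _ rfl : b ∣ a₀).trans haa
    rw [PrimeSpectrum.basicOpen_mul] at hx
    exact hx.1
  let P := g' ⁻¹ᵁ W
  have sqW : IsPullback (g' ∣_ W) (P.ι ≫ f') (W.ι ≫ f) (awayι a) :=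
    (isPullback_morphismRestrict g' W).paste_vert sq
  haveI : IsSeparated (P.ι ≫ f') := MorphismProperty.of_isPullback (P := @IsSeparated) sqW inferInstance
  haveI : QuasiCompact (P.ι ≫ f') := MorphismProperty.of_isPullback (P := @QuasiCompact) sqW inferInstance
  haveI hPc : CompactSpace P.toScheme := QuasiCompact.compactSpace_of_compactSpace (P.ι ≫ f')
  refine ⟨isCompact_iff_compactSpace.mpr hPc, inferInstance, fun h => ?_⟩
  let S' := Spec (CommRingCat.of (Localization.Away a))
  let B : Type u := Γ(S', ⊤)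
  letI : P.toScheme.Over (Spec (CommRingCat.of Γ(S', ⊤))) :=
    ⟨f'.resLE ⊤ P h ≫ (isAffineOpen_top S').isoSpec.hom⟩
  intro n
  let φ : A →+* B := (Scheme.ΓSpecIso (CommRingCat.of (Localization.Away a))).inv.hom.comp
    (algebraMap A (Localization.Away a))
  letI : Algebra A B := φ.toAlgebra
  let σ : Localization.Away a ≃+* B :=
    (Scheme.ΓSpecIso (CommRingCat.of (Localization.Away a))).symm.commRingCatIsoToRingEquiv
  letI : Algebra (Localization.Away a) B := σ.toRingHom.toAlgebra
  haveI : IsScalarTower A (Localization.Away a) B := IsScalarTower.of_algebraMap_eq fun _ => rfl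
  haveI : IsLocalization.Away a B :=
    IsLocalization.isLocalization_of_algEquiv _
      (AlgEquiv.ofRingEquiv (f := σ) fun _ => rfl : Localization.Away a ≃ₐ[A] B)
  haveI : Module.Flat A B := IsLocalization.flat B (Submonoid.powers a)
  have hov : (f'.resLE ⊤ P h ≫ (isAffineOpen_top S').isoSpec.hom) ≫ (isAffineOpen_top S').fromSpec = P.ι ≫ f' := by
    rw [Category.assoc, IsAffineOpen.isoSpec_hom_fromSpec, Scheme.Hom.resLE_comp_ι]
  have hφ : (isAffineOpen_top S').fromSpec ≫ awayι a = Spec.map (CommRingCat.ofHom (algebraMap A B)) := by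
    rw [IsAffineOpen.fromSpec_top, Scheme.isoSpec_Spec_inv, ← Spec.map_comp]
    rfl
  haveI : IsIso (isAffineOpen_top S').fromSpec := by rw [IsAffineOpen.fromSpec_top]; infer_instance
  have sqB : IsPullback (g' ∣_ W) (P.toScheme ↘ Spec (CommRingCat.of B)) (W.toScheme ↘ Spec (CommRingCat.of A))
      (Spec.map (CommRingCat.ofHom (algebraMap A B))) := by
    rw [← hφ]
    exact sqW.of_iso (Iso.refl _) (Iso.refl _) (asIso (isAffineOpen_top S').fromSpec).symm (Iso.refl _)
      (by simp) (by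
        show (P.ι ≫ f') ≫ inv (isAffineOpen_top S').fromSpec = _
        rw [← hov, Category.assoc, IsIso.hom_inv_id, Category.comp_id]
        exact (Category.id_comp _).symm) (by simp; rfl) (by simp)
  obtain ⟨e⟩ := W7Cech.nonempty_hh_flat_bc A B 𝒰 h𝒰 hcov (g' ∣_ W) sqB (F.restrict W.ι) hFW.1 n
  let er : ((Scheme.Modules.pullback g').obj F).restrict P.ι ≅
      (Scheme.Modules.pullback (g' ∣_ W)).obj (F.restrict W.ι) :=
    (Scheme.Modules.restrictFunctorIsoPullback P.ι).app _ ≪≫
      (Scheme.Modules.pullbackComp P.ι g').app F ≪≫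
      (Scheme.Modules.pullbackCongr (morphismRestrict_ι g' W).symm).app F ≪≫
      ((Scheme.Modules.pullbackComp (g' ∣_ W) W.ι).app F).symm ≪≫
      (Scheme.Modules.pullback (g' ∣_ W)).mapIso ((Scheme.Modules.restrictFunctorIsoPullback W.ι).app F).symm
  haveI : Module.Flat B (B ⊗[A] M n) := by
    by_cases hn : n < Nat.card ι
    · haveI := GenFree.free_away_of_dvd (g := a)
        (((Finset.dvd_prod_of_mem c (Finset.mem_range.mpr hn)).trans (Dvd.intro_left b rfl)).trans haa) (M n) (hfree n)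
      haveI : Module.Flat (Localization.Away a) (Localization.Away a ⊗[A] M n) := inferInstance
      exact Module.Flat.of_linearEquiv (TensorProduct.AlgebraTensorModule.cancelBaseChange A (Localization.Away a) B B (M n)).symm
    · haveI : Subsingleton (M n) := W7Cech.hh_vanish_cover 𝒰 h𝒰1 hcov _ hFW.1 n (Nat.le_of_not_lt hn)
      haveI : Subsingleton (B ⊗[A] M n) := inferInstance
      infer_instance
  haveI : Module.Flat B (Coh.HH P.toScheme ((Scheme.Modules.pullback (g' ∣_ W)).obj (F.restrict W.ι)) n) :=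
    Module.Flat.of_linearEquiv e
  exact Module.Flat.of_linearEquiv (CohFinite.hhEquiv B er n)

end GenHH

end Groth.Agent.PicProp
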