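import Groth.Agent.PicProp.HomFam

/-!
Kernels of the morphisms `F → i_*(coker(L → i^*F))` form a bounded family.
-/

set_option autoImplicit false
set_option backward.isDefEq.respectTransparency false
set_option backward.isDefEq.respectTransparency.types false
set_option linter.style.haveILetI false
set_option linter.unusedSectionVars false
set_option maxHeartbeats 1000000

universe u

open CategoryTheory CategoryTheory.Limits AlgebraicGeometry TopologicalSpace Opposite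

noncomputable section

namespace Groth.Agent.PicProp

attribute [local instance] Abelian.hasFiniteBiproducts

section Formal

variable {C Z : Scheme.{u}} (i : C ⟶ Z)

/-- The map `F → i_* coker(L → i^* F)`. -/
abbrev glueMap {F : Z.Modules} {L : C.Modules} (φ : L ⟶ (Scheme.Modules.pullback i).obj F) :
    F ⟶ (Scheme.Modules.pushforward i).obj (cokernel φ) :=
  (Scheme.Modules.pullbackPushforwardAdjunction i).unit.app F ≫ (Scheme.Modules.pushforward i).map (cokernel.π φ)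

/-- The kernel of the glueing map is invariant under isomorphisms. -/
theorem nonempty_kernel_glueMap {F F' : Z.Modules} {L L' : C.Modules} (a : F' ≅ F) (b : L' ≅ L)
    (φ : L ⟶ (Scheme.Modules.pullback i).obj F) (φ' : L' ⟶ (Scheme.Modules.pullback i).obj F')
    (h : φ' ≫ (Scheme.Modules.pullback i).map a.hom = b.hom ≫ φ) :
    Nonempty (kernel (glueMap i φ') ≅ kernel (glueMap i φ)) := by
  let c := cokernel.mapIso φ' φ b ((Scheme.Modules.pullback i).mapIso a) h
  refine ⟨kernel.mapIso _ _ a ((Scheme.Modules.pushforward i).mapIso c) ?_⟩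
  have hu := (Scheme.Modules.pullbackPushforwardAdjunction i).unit.naturality a.hom
  have hπ : cokernel.π φ' ≫ c.hom = (Scheme.Modules.pullback i).map a.hom ≫ cokernel.π φ := cokernel.π_desc _ _ _
  simp only [Functor.mapIso_hom, glueMap, Category.assoc, ← Functor.map_comp, hπ]
  rw [Functor.map_comp]
  exact ((reassoc_of% hu) ((Scheme.Modules.pushforward i).map (cokernel.π φ))).symm

end Formal

variable (k : Type u) [Field k] {C Z : Scheme.{u}} [C.Over (Spec (CommRingCat.of k))]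
  [Z.Over (Spec (CommRingCat.of k))] [IsProper (C ↘ Spec (CommRingCat.of k))]
  [IsProper (Z ↘ Spec (CommRingCat.of k))] (i : C ⟶ Z) [IsClosedImmersion i]
  (hi : i ≫ (Z ↘ Spec (CommRingCat.of k)) = C ↘ Spec (CommRingCat.of k))

include hi in
/-- Over an affine base, the glueing kernels over a non-empty basic open form a bounded family. -/
theorem exists_isBounded_glue_affine {A : Type u} [CommRing A] [IsDomain A]
    (q : Spec (CommRingCat.of A) ⟶ Spec (CommRingCat.of k)) [LocallyOfFiniteType q]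
    {F : (Pic13.prodK k Z q).Modules} (hF : Coh.IsCoh F) {L : (Pic13.prodK k C q).Modules} (hL : PicF.IsInvertible L) :
    ∃ a : A, a ≠ 0 ∧ Pic13.IsBounded k Z (fun N =>
      ∃ (s : Spec (CommRingCat.of k) ⟶ Spec (CommRingCat.of (Localization.Away a)))
        (hs : (s ≫ awayι a) ≫ q = 𝟙 _)
        (φ : Pic13.fibreMod k C q (s ≫ awayι a) hs L ⟶
          (Scheme.Modules.pullback i).obj (Pic13.fibreMod k Z q (s ≫ awayι a) hs F)),
        Nonempty (kernel (glueMap i φ) ≅ N)) := by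
  classical
  let iA := prodX k i hi q
  obtain ⟨a, ha, r, φ, hspan⟩ := exists_spanning_homs k q hL (QC.isCoh_pullback iA hF)
  refine ⟨a, ha, ?_⟩
  -- over the basic open
  let q₁ := awayι a ≫ q
  haveI : LocallyOfFiniteType (awayι (A := A) a) := inferInstance
  haveI : LocallyOfFiniteType q₁ := inferInstance
  let J₁C := PicBdd.prodMap k (X := C) (awayι a) (q' := q₁) rfl
  let J₁Z := PicBdd.prodMap k (X := Z) (awayι a) (q' := q₁) rfl
  let i₁ := prodX k i hi q₁
  have w₁ : J₁C ≫ iA = i₁ ≫ J₁Z := by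
    refine pullback.hom_ext ?_ ?_ <;> simp [J₁C, J₁Z, iA, i₁, prodX, PicBdd.prodMap]
  let F₁ := (Scheme.Modules.pullback J₁Z).obj F
  let L₁ := (Scheme.Modules.pullback J₁C).obj L
  let e₁ := (sqIso w₁).app F
  -- the universal morphism
  let R := MvPolynomial (Fin r) (Localization.Away a)
  let j₂ : Spec (CommRingCat.of R) ⟶ Spec (CommRingCat.of (Localization.Away a)) :=
    Spec.map (CommRingCat.ofHom MvPolynomial.C)
  haveI : LocallyOfFiniteType j₂ := by
    rw [HasRingHomProperty.Spec_iff (P := @LocallyOfFiniteType)]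
    exact RingHom.finiteType_algebraMap.mpr (inferInstance : Algebra.FiniteType (Localization.Away a) R)
  let q₂ := j₂ ≫ q₁
  haveI : LocallyOfFiniteType q₂ := inferInstance
  haveI : QuasiCompact q₂ := inferInstance
  let J₂C := PicBdd.prodMap k (X := C) j₂ (q' := q₂) rfl
  let J₂Z := PicBdd.prodMap k (X := Z) j₂ (q' := q₂) rfl
  let i₂ := prodX k i hi q₂
  have w₂ : J₂C ≫ i₁ = i₂ ≫ J₂Z := by
    refine pullback.hom_ext ?_ ?_ <;> simp [J₂C, J₂Z, i₁, i₂, prodX, PicBdd.prodMap]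
  let F₂ := (Scheme.Modules.pullback J₂Z).obj F₁
  let L₂ := (Scheme.Modules.pullback J₂C).obj L₁
  let e₂ := (sqIso w₂).app F₁
  let p₂ := pullback.snd (C ↘ Spec (CommRingCat.of k)) q₂
  let c : Fin r → Γ(Pic13.prodK k C q₂, ⊤) := fun j => Coh.toGlobal p₂ (MvPolynomial.X j)
  let φ₂ : L₂ ⟶ (Scheme.Modules.pullback i₂).obj F₂ :=
    (∑ j, (Scheme.Modules.pullback J₂C).map (φ j ≫ e₁.hom) ≫ PicBdd.scal (c j) _) ≫ e₂.hom
  haveI : IsClosedImmersion i₂ :=
    MorphismProperty.of_isPullback (P := @IsClosedImmersion) (isPullback_prodX k i hi q₂) ‹_›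
  haveI : IsLocallyNoetherian (Pic13.prodK k Z q₂) :=
    LocallyOfFiniteType.isLocallyNoetherian (pullback.snd (Z ↘ Spec (CommRingCat.of k)) q₂ ≫ q₂)
  haveI : IsLocallyNoetherian (Pic13.prodK k C q₂) :=
    LocallyOfFiniteType.isLocallyNoetherian (pullback.snd (C ↘ Spec (CommRingCat.of k)) q₂ ≫ q₂)
  have hF₂ : Coh.IsCoh F₂ := QC.isCoh_pullback J₂Z (QC.isCoh_pullback J₁Z hF)
  have hG : Coh.IsCoh (cokernel φ₂) :=
    QC.isCoh_cokernel (QC.isQCoh_pullback J₂C (QC.isQCoh_pullback J₁C (TMul.isQCoh_of_isInvertible hL)))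
      (QC.isCoh_pullback i₂ hF₂) φ₂
  haveI := epi_unit_closed i₂ F₂
  haveI : Epi (glueMap i₂ φ₂) := by
    haveI := KFlat.preservesHomology_pushforward i₂
    exact epi_comp _ _
  refine PicBdd.isBounded_mono k (isBounded_kernel k q₂ hF₂ (Intersect.isCoh_push' i₂ hG) (glueMap i₂ φ₂))
    fun N ⟨s, hs, φ₀, ⟨eN⟩⟩ => ?_
  have hs₁ : s ≫ q₁ = 𝟙 _ := by rw [← hs, Category.assoc]
  let σs := Pic13.sliceAt k C q₁ s hs₁
  let σsZ := Pic13.sliceAt k Z q₁ s hs₁
  have ws : σs ≫ i₁ = i ≫ σsZ := slice_prodX k i hi q₁ s hs₁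
  obtain ⟨a₀⟩ := PicBdd.nonempty_fibreMod_pullback (X := Z) k (awayι a) (q' := q₁) rfl s hs₁ hs F
  obtain ⟨b₀⟩ := PicBdd.nonempty_fibreMod_pullback (X := C) k (awayι a) (q' := q₁) rfl s hs₁ hs L
  let γs := (sqIso ws).app F₁
  let ψ := b₀.hom ≫ φ₀ ≫ (Scheme.Modules.pullback i).map a₀.inv ≫ γs.inv
  obtain ⟨b, hb⟩ := hspan s hs₁ (ψ ≫ ((Scheme.Modules.pullback σs).mapIso e₁).inv)
  -- the point
  let ev : Localization.Away a →+* k := (Spec.preimage s).hom
  let t : Spec (CommRingCat.of k) ⟶ Spec (CommRingCat.of R) :=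
    Spec.map (CommRingCat.ofHom (MvPolynomial.eval₂Hom ev b))
  have htj : t ≫ j₂ = s := by
    rw [← Spec.map_comp, ← Spec.map_preimage s]
    congr 1
    ext x
    exact MvPolynomial.eval₂_C ev b x
  have ht : t ≫ q₂ = 𝟙 _ := by rw [← Category.assoc, htj, hs₁]
  refine ⟨t, ht, ?_⟩
  let σt := Pic13.sliceAt k C q₂ t ht
  let σtZ := Pic13.sliceAt k Z q₂ t ht
  have wt : σt ≫ i₂ = i ≫ σtZ := slice_prodX k i hi q₂ t ht
  have hσ : σt ≫ J₂C = σs := by
    refine pullback.hom_ext ?_ ?_ <;> simp [σt, σs, J₂C, PicBdd.prodMap, Pic13.sliceAt, htj]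
  have hσZ : σtZ ≫ J₂Z = σsZ := by
    refine pullback.hom_ext ?_ ?_ <;> simp [σtZ, σsZ, J₂Z, PicBdd.prodMap, Pic13.sliceAt, htj]
  have hsq : IsPullback σt i i₂ σtZ := by
    refine IsPullback.of_right ?_ wt (isPullback_prodX k i hi q₂)
    rw [show σt ≫ pullback.fst _ _ = 𝟙 C from pullback.lift_fst _ _ _,
      show σtZ ≫ pullback.fst _ _ = 𝟙 Z from pullback.lift_fst _ _ _]
    exact IsPullback.of_horiz_isIso ⟨by simp⟩
  let θ := Scheme.Modules.pullbackComp σt J₂C ≪≫ Scheme.Modules.pullbackCongr hσ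
  let θZ := Scheme.Modules.pullbackComp σtZ J₂Z ≪≫ Scheme.Modules.pullbackCongr hσZ
  let γt := (sqIso wt).app F₂
  have hc : ∀ j, σt.appTop (c j) = (show Γ(C, ⊤) from Coh.toGlobal (C ↘ Spec (CommRingCat.of k)) (b j)) := fun j => by
    refine (PicBdd.toGlobal_comp σt p₂ (MvPolynomial.X j)).trans ?_
    rw [show σt ≫ p₂ = (C ↘ Spec (CommRingCat.of k)) ≫ t from pullback.lift_snd _ _ _, PicBdd.toGlobal_specMap,
      MvPolynomial.eval₂Hom_X']
  have hsum : (Scheme.Modules.pullback σt).map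
      (∑ j, (Scheme.Modules.pullback J₂C).map (φ j ≫ e₁.hom) ≫ PicBdd.scal (c j) _) ≫ (θ.app _).hom =
      (θ.app L₁).hom ≫ ψ := by
    have hψ : ψ = (ψ ≫ ((Scheme.Modules.pullback σs).mapIso e₁).inv) ≫ (Scheme.Modules.pullback σs).map e₁.hom := by
      refine (((Category.assoc _ _ _).trans (congrArg (ψ ≫ ·) ?_)).trans (Category.comp_id ψ)).symm
      exact ((Scheme.Modules.pullback σs).mapIso e₁).inv_hom_id
    rw [hψ, hb, PicBdd.pullback_map_sum_scal, Preadditive.sum_comp, Preadditive.sum_comp, Preadditive.comp_sum]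
    refine Finset.sum_congr rfl fun j _ => ?_
    rw [hc, Category.assoc, PicBdd.scal_comp, Category.assoc, PicBdd.scal_comp]
    simp only [← Category.assoc]
    refine congrArg (· ≫ _) ?_
    rw [Category.assoc, ← Functor.map_comp]
    exact θ.hom.naturality (φ j ≫ e₁.hom)
  let φ' : (Scheme.Modules.pullback σt).obj L₂ ⟶
      (Scheme.Modules.pullback i).obj ((Scheme.Modules.pullback σtZ).obj F₂) :=
    (Scheme.Modules.pullback σt).map φ₂ ≫ γt.hom
  have hpaste := sqIso_paste w₂ wt hσZ hσ ws F₁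
  have hφ' : φ' ≫ (Scheme.Modules.pullback i).map ((θZ.app F₁) ≪≫ a₀).hom = ((θ.app L₁) ≪≫ b₀).hom ≫ φ₀ := by
    have hp : (Scheme.Modules.pullback σt).map e₂.hom ≫ γt.hom ≫ (Scheme.Modules.pullback i).map (θZ.app F₁).hom =
        (θ.app _).hom ≫ γs.hom := by
      have h' : (Scheme.Modules.pullback i).map (θZ.app F₁).hom =
          γt.inv ≫ ((Scheme.Modules.pullback σt).mapIso e₂).inv ≫
            (θ.app ((Scheme.Modules.pullback i₁).obj F₁)).hom ≫ γs.hom := by
        rw [← cancel_mono γs.inv]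
        simp only [Category.assoc, Iso.hom_inv_id, Category.comp_id]
        exact hpaste.symm
      rw [h', Iso.hom_inv_id_assoc]
      exact ((Scheme.Modules.pullback σt).mapIso e₂).hom_inv_id_assoc _
    simp only [φ', φ₂, Functor.map_comp _ (∑ j, _) _, Category.assoc, Iso.trans_hom]
    rw [Functor.map_comp (Scheme.Modules.pullback i)]
    rw [reassoc_of% hp]
    refine ((reassoc_of% hsum) (γs.hom ≫ (Scheme.Modules.pullback i).map a₀.hom)).trans ?_
    simp only [ψ, Category.assoc, Iso.inv_hom_id_assoc, ← Functor.map_comp, Iso.inv_hom_id,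
      CategoryTheory.Functor.map_id, Category.comp_id]
  obtain ⟨eK⟩ := nonempty_kernel_glueMap i ((θZ.app F₁) ≪≫ a₀) ((θ.app L₁) ≪≫ b₀) φ₀ φ' hφ'
  haveI : IsIso (CohBC.bc0 i₂ σtZ i σt wt (cokernel φ₂)) :=
    isIso_bc0_affine hsq (cokernel φ₂) hG.1
  let χ := γt.inv ≫ (Scheme.Modules.pullback σt).map (cokernel.π φ₂)
  have hψt : (Scheme.Modules.pullback σtZ).map (glueMap i₂ φ₂) ≫ CohBC.bc0 i₂ σtZ i σt wt (cokernel φ₂) =
      (Scheme.Modules.pullbackPushforwardAdjunction i).unit.app _ ≫ (Scheme.Modules.pushforward i).map χ :=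
    pullback_map_unit_bc0 wt F₂ (cokernel.π φ₂)
  let cC : cokernel φ' ≅ (Scheme.Modules.pullback σt).obj (cokernel φ₂) :=
    (cokernelCompIsIso _ γt.hom) ≪≫ (PreservesCokernel.iso (Scheme.Modules.pullback σt) φ₂).symm
  have hcC : cokernel.π φ' ≫ cC.hom = χ := by simp [cC, χ, φ', cokernelCompIsIso]
  exact ⟨(kernelCompMono _ (CohBC.bc0 i₂ σtZ i σt wt (cokernel φ₂))).symm ≪≫
    kernel.mapIso _ _ (Iso.refl _) ((Scheme.Modules.pushforward i).mapIso cC).symm (by
      rw [hψt, Iso.refl_hom, Category.id_comp, ← hcC]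
      simp [glueMap, ← Functor.map_comp]
      rfl) ≪≫ eK ≪≫ eN⟩

include hi in
/-- The glueing kernels of two bounded families form a bounded family. -/
theorem isBounded_glue [IsAlgClosed k] {PF : Z.Modules → Prop} (hPF : Pic13.IsBounded k Z PF) {PC : C.Modules → Prop}
    (hPCi : ∀ L, PC L → PicF.IsInvertible L) (hPC : Pic13.IsBounded k C PC) :
    Pic13.IsBounded k Z (fun N => ∃ (F : Z.Modules) (L : C.Modules)
      (φ : L ⟶ (Scheme.Modules.pullback i).obj F), PF F ∧ PC L ∧ Nonempty (kernel (glueMap i φ) ≅ N)) := by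
  classical
  obtain ⟨TF, qF, hlF, hcF, FF, hFF, hfamF⟩ := hPF
  obtain ⟨ι, hι, S, hSi, hfamC⟩ := PicBdd.exists_invertible_strata PC hPCi hPC
  haveI : Fintype ι := Fintype.ofFinite ι
  haveI := hlF
  haveI := hcF
  refine PicBdd.isBounded_mono k (PicBdd.isBounded_finset k Finset.univ
    (fun l N => ∃ (F : Z.Modules) (L : C.Modules) (φ : L ⟶ (Scheme.Modules.pullback i).obj F),
      PF F ∧ (S l).Has L ∧ Nonempty (kernel (glueMap i φ) ≅ N)) fun l _ => ?_) ?_
  swap
  · rintro N ⟨F, L, φ, hF, hL, he⟩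
    obtain ⟨l, hl⟩ := hfamC L hL
    exact ⟨l, Finset.mem_univ l, F, L, φ, hF, hl, he⟩
  haveI := (S l).lft
  haveI := (S l).qc
  let T := pullback qF (S l).q
  let q : T ⟶ Spec (CommRingCat.of k) := pullback.fst qF (S l).q ≫ qF
  let JZ := PicBdd.prodMap k (X := Z) (pullback.fst qF (S l).q) (q := qF) (q' := q) rfl
  let JC := PicBdd.prodMap k (X := C) (pullback.snd qF (S l).q) (q := (S l).q) (q' := q) pullback.condition.symm
  let FT := (Scheme.Modules.pullback JZ).obj FF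
  let LT := (Scheme.Modules.pullback JC).obj (S l).G
  refine PicBdd.isBounded_mono k (isBounded_of_generic k q (fun t N => ∃ (ht : t ≫ q = 𝟙 _)
    (φ : Pic13.fibreMod k C q t ht LT ⟶ (Scheme.Modules.pullback i).obj (Pic13.fibreMod k Z q t ht FT)),
      Nonempty (kernel (glueMap i φ) ≅ N)) ?_) fun N ⟨F, L, φ, hF, ⟨tL, htL, ⟨eL⟩⟩, ⟨eN⟩⟩ => ?_
  · intro A _ _ j hjq
    let qA := j ≫ q
    haveI : LocallyOfFiniteType qA := hjq
    let KZ := PicBdd.prodMap k (X := Z) j (q' := qA) rfl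
    let KC := PicBdd.prodMap k (X := C) j (q' := qA) rfl
    obtain ⟨a, ha, hb⟩ := exists_isBounded_glue_affine k i hi qA
      (F := (Scheme.Modules.pullback KZ).obj FT) (QC.isCoh_pullback KZ (QC.isCoh_pullback JZ hFF))
      (L := (Scheme.Modules.pullback KC).obj LT) (PicLoc.isInvertible_pullback KC (PicLoc.isInvertible_pullback JC (hSi l)))
    refine ⟨a, ha, PicBdd.isBounded_mono k hb ?_⟩
    rintro N ⟨s, hs, ht, φ, ⟨eN⟩⟩
    have hsA : (s ≫ awayι a) ≫ qA = 𝟙 _ := by rw [Category.assoc]; exact hs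
    have key : ∀ t' (ht' : t' ≫ q = 𝟙 _), t' = s ≫ awayι a ≫ j →
        ∀ (a' : Pic13.fibreMod k Z qA (s ≫ awayι a) hsA ((Scheme.Modules.pullback KZ).obj FT) ≅
            Pic13.fibreMod k Z q t' ht' FT)
          (b' : Pic13.fibreMod k C qA (s ≫ awayι a) hsA ((Scheme.Modules.pullback KC).obj LT) ≅
            Pic13.fibreMod k C q t' ht' LT),
        ∃ φ', Nonempty (kernel (glueMap i (φ' : Pic13.fibreMod k C qA (s ≫ awayι a) hsA ((Scheme.Modules.pullback KC).obj LT) ⟶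
          (Scheme.Modules.pullback i).obj (Pic13.fibreMod k Z qA (s ≫ awayι a) hsA
            ((Scheme.Modules.pullback KZ).obj FT)))) ≅ N) := by
      rintro t' ht' rfl a' b'
      obtain ⟨e⟩ := nonempty_kernel_glueMap i a' b' φ (b'.hom ≫ φ ≫ (Scheme.Modules.pullback i).map a'.inv)
        (by simp [← Functor.map_comp])
      exact ⟨_, ⟨e ≪≫ eN⟩⟩
    have ht₂ : ((s ≫ awayι a) ≫ j) ≫ q = 𝟙 _ := by simpa only [Category.assoc] using hsA
    obtain ⟨a'⟩ := PicBdd.nonempty_fibreMod_pullback (X := Z) k j (q' := qA) rfl (s ≫ awayι a) hsA ht₂ FT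
    obtain ⟨b'⟩ := PicBdd.nonempty_fibreMod_pullback (X := C) k j (q' := qA) rfl (s ≫ awayι a) hsA ht₂ LT
    obtain ⟨φ', he⟩ := key _ ht₂ (Category.assoc _ _ _) a' b'
    exact ⟨s, hsA, φ', he⟩
  · obtain ⟨tF, htF, ⟨eF⟩⟩ := hfamF F hF
    let t := pullback.lift tF tL (htF.trans htL.symm)
    have ht : t ≫ q = 𝟙 _ := by rw [← Category.assoc, pullback.lift_fst, htF]
    have key : ∀ t₁ (ht₁ : t₁ ≫ qF = 𝟙 _), t₁ = tF → Nonempty (Pic13.fibreMod k Z qF t₁ ht₁ FF ≅ F) := by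
      rintro t₁ ht₁ rfl
      exact ⟨eF⟩
    have key' : ∀ t₁ (ht₁ : t₁ ≫ (S l).q = 𝟙 _), t₁ = tL → Nonempty (Pic13.fibreMod k C (S l).q t₁ ht₁ (S l).G ≅ L) := by
      rintro t₁ ht₁ rfl
      exact ⟨eL⟩
    have h1 : (t ≫ pullback.fst qF (S l).q) ≫ qF = 𝟙 _ := by rw [Category.assoc]; exact ht
    have h2 : (t ≫ pullback.snd qF (S l).q) ≫ (S l).q = 𝟙 _ := by rw [pullback.lift_snd, htL]
    obtain ⟨eFT⟩ := PicBdd.nonempty_fibreMod_pullback (X := Z) k (pullback.fst qF (S l).q) (q' := q) rfl t ht h1 FF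
    obtain ⟨eLT⟩ := PicBdd.nonempty_fibreMod_pullback (X := C) k (pullback.snd qF (S l).q) (q' := q)
      pullback.condition.symm t ht h2 (S l).G
    obtain ⟨eF'⟩ := key _ h1 (pullback.lift_fst _ _ _)
    obtain ⟨eL'⟩ := key' _ h2 (pullback.lift_snd _ _ _)
    obtain ⟨e⟩ := nonempty_kernel_glueMap i (eFT ≪≫ eF') (eLT ≪≫ eL') φ
      ((eLT ≪≫ eL').hom ≫ φ ≫ (Scheme.Modules.pullback i).map (eFT ≪≫ eF').inv) (by simp [← Functor.map_comp])
    exact ⟨t, ht, ht, _, ⟨e ≪≫ eN⟩⟩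

end Groth.Agent.PicProp
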