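import Groth.Agent.PicProp.Square
import Groth.Agent.ProjMor.PullSec
import Groth.Agent.SymAlg.InvDual

/-!
Finitely many morphisms spanning the homomorphisms out of an invertible module on every fibre over a
non-empty basic open.
-/

set_option autoImplicit false
set_option backward.isDefEq.respectTransparency false
set_option backward.isDefEq.respectTransparency.types false
set_option linter.style.haveILetI false
set_option linter.unusedSectionVars false
set_option maxHeartbeats 1000000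

universe u

open CategoryTheory CategoryTheory.Limits AlgebraicGeometry TopologicalSpace Opposite
open Groth.Agent.W7Cech
open Groth.Agent.QC (res resO res_res res_self res_smul app_res)

noncomputable section

namespace Groth.Agent.PicProp

variable (k : Type u) [Field k] {C : Scheme.{u}} [C.Over (Spec (CommRingCat.of k))]
  [IsProper (C ↘ Spec (CommRingCat.of k))]
  {A : Type u} [CommRing A] [IsDomain A] (q : Spec (CommRingCat.of A) ⟶ Spec (CommRingCat.of k))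
  [LocallyOfFiniteType q]

/-- Over a non-empty basic open, finitely many sections span the sections of every fibre. -/
theorem exists_spanning_sections {E : (Pic13.prodK k C q).Modules} (hE : Coh.IsCoh E) :
    ∃ a : A, a ≠ 0 ∧ ∃ (r : ℕ) (h : Fin r →
        (Coh.structureModule (Pic13.prodK k C (awayι a ≫ q)) ⟶
          (Scheme.Modules.pullback (PicBdd.prodMap k (X := C) (awayι a) (q' := awayι a ≫ q) rfl)).obj E)),
      ∀ (s : Spec (CommRingCat.of k) ⟶ Spec (CommRingCat.of (Localization.Away a))) (hs : s ≫ awayι a ≫ q = 𝟙 _)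
        (g : Coh.structureModule C ⟶ (Scheme.Modules.pullback (Pic13.sliceAt k C (awayι a ≫ q) s hs)).obj
          ((Scheme.Modules.pullback (PicBdd.prodMap k (X := C) (awayι a) (q' := awayι a ≫ q) rfl)).obj E)),
        ∃ b : Fin r → k, g = ∑ j, ((PicLoc.pullbackStructureIso (Pic13.sliceAt k C (awayι a ≫ q) s hs)).inv ≫
            (Scheme.Modules.pullback (Pic13.sliceAt k C (awayι a ≫ q) s hs)).map (h j)) ≫
          PicBdd.scal (show Γ(C, ⊤) from Coh.toGlobal (C ↘ Spec (CommRingCat.of k)) (b j)) _ := by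
  classical
  haveI : IsNoetherianRing A := by
    haveI : IsLocallyNoetherian (Spec (CommRingCat.of A)) := LocallyOfFiniteType.isLocallyNoetherian q
    exact isLocallyNoetherian_Spec.mp ‹_›
  let pA := pullback.snd (C ↘ Spec (CommRingCat.of k)) q
  let p : (⊤ : (Pic13.prodK k C q : Scheme.{u}).Opens).toScheme ⟶ Spec (CommRingCat.of A) :=
    (⊤ : (Pic13.prodK k C q : Scheme.{u}).Opens).ι ≫ pA
  haveI : IsProper pA := MorphismProperty.pullback_snd _ _ ‹_›
  haveI : IsIso (⊤ : (Pic13.prodK k C q : Scheme.{u}).Opens).ι :=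
    inferInstanceAs (IsIso (Scheme.topIso (Pic13.prodK k C q)).hom)
  haveI : IsProper p := inferInstanceAs (IsProper (_ ≫ pA))
  obtain ⟨a, ha, hgood⟩ := exists_flat_hh pA E hE ⊤ (R := A) p (by
    rw [show CommRingCat.ofHom (algebraMap A A) = 𝟙 (CommRingCat.of A) from rfl, Spec.map_id, Category.comp_id])
  refine ⟨a, ha, ?_⟩
  let q₁ := awayι a ≫ q
  haveI : LocallyOfFiniteType (awayι (A := A) a) := inferInstance
  haveI : LocallyOfFiniteType q₁ := inferInstance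
  let J := PicBdd.prodMap k (X := C) (awayι a) (q' := q₁) rfl
  let E₁ := (Scheme.Modules.pullback J).obj E
  let p₁ := pullback.snd (C ↘ Spec (CommRingCat.of k)) q₁
  have hsq := PicBdd.isPullback_prodMap k (X := C) (awayι a) (q := q) (q' := q₁) rfl
  obtain ⟨hfl, hPc, hsep, hH⟩ := hgood a dvd_rfl J p₁ hsq
  haveI := hsep
  have hE₁ : Coh.IsCoh E₁ := QC.isCoh_pullback J hE
  haveI : IsLocallyNoetherian (Spec (CommRingCat.of (Localization.Away a))) :=
    LocallyOfFiniteType.isLocallyNoetherian q₁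
  have hG : Coh.IsCoh ((Scheme.Modules.pushforward p₁).obj E₁) := Intersect.isCoh_push' p₁ hE₁
  haveI := QC.finite_sections (hM := hG.1) (isAffineOpen_top (Spec (CommRingCat.of (Localization.Away a)))) hG.2
  obtain ⟨r, v, hv⟩ := Module.Finite.exists_fin (R := Γ(Spec (CommRingCat.of (Localization.Away a)), ⊤))
    (M := Γ((Scheme.Modules.pushforward p₁).obj E₁, ⊤))
  refine ⟨r, fun j => TMul.homOf (show Γ(E₁, ⊤) from v j), fun s hs g => ?_⟩
  have hs' : s ≫ q₁ = 𝟙 _ := hs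
  let σ := Pic13.sliceAt k C q₁ s hs'
  let pC := C ↘ Spec (CommRingCat.of k)
  let G := (Scheme.Modules.pullback σ).obj E₁
  let A₁ : Type u := Γ(Spec (CommRingCat.of (Localization.Away a)), ⊤)
  let B₁ : Type u := Γ(Spec (CommRingCat.of k), ⊤)
  have hVU : (⊤ : (Spec (CommRingCat.of k)).Opens) ≤ s ⁻¹ᵁ ⊤ := le_top
  have hP : (⊤ : (Pic13.prodK k C q₁ : Scheme.{u}).Opens) ≤ p₁ ⁻¹ᵁ ⊤ := le_top
  have hC : (⊤ : C.Opens) ≤ pC ⁻¹ᵁ (⊤ : (Spec (CommRingCat.of k)).Opens) := fun _ _ => trivial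
  have hP' : (⊤ : C.Opens) = σ ⁻¹ᵁ ⊤ ⊓ pC ⁻¹ᵁ ⊤ := by simp
  letI : Algebra A₁ B₁ := (s.appLE ⊤ ⊤ hVU).hom.toAlgebra
  letI : Module A₁ (SM pC G ⊤ hC : Type u) := Module.compHom _ (s.appLE ⊤ ⊤ hVU).hom
  haveI : IsScalarTower A₁ B₁ (SM pC G ⊤ hC : Type u) := IsScalarTower.of_algebraMap_smul fun _ _ => rfl
  have hζ := isBaseChange_sections p₁ hE₁.1 (P := ⊤) (isAffineOpen_top _) hP hPc (fun y _ => hfl y) (hH hP)
    (isPullback_slice k C q₁ s hs') (isAffineOpen_top _) hVU hP'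
  let ζ : (SM p₁ E₁ ⊤ hP : Type u) →ₗ[A₁] (SM pC G ⊤ hC : Type u) :=
    pullPiece E₁ hVU (isPullback_slice k C q₁ s hs').w hP (hP'.le.trans inf_le_left) (hP'.le.trans inf_le_right)
  obtain ⟨m, hm⟩ := surjective_of_isBaseChange hζ (surjective_appLE_point q₁ s hs')
    (show (SM pC G ⊤ hC : Type u) from TMul.val g ⊤)
  let v' : Fin r → (SM p₁ E₁ ⊤ hP : Type u) := fun j => (show Γ(E₁, ⊤) from v j)
  obtain ⟨c, hc⟩ : ∃ c : Fin r → A₁, m = ∑ j, c j • v' j := by
    have hm' : (show Γ((Scheme.Modules.pushforward p₁).obj E₁, ⊤) from m) ∈ Submodule.span A₁ (Set.range v) :=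
      hv ▸ Submodule.mem_top
    obtain ⟨c, hc⟩ := (Submodule.mem_span_range_iff_exists_fun A₁).1 hm'
    refine ⟨c, hc.symm.trans (Finset.sum_congr rfl fun j _ => ?_)⟩
    change (p₁.app ⊤).hom (c j) • (show Γ(E₁, p₁ ⁻¹ᵁ ⊤) from v j) =
      (p₁.appLE ⊤ (p₁ ⁻¹ᵁ ⊤) le_rfl).hom (c j) • (show Γ(E₁, p₁ ⁻¹ᵁ ⊤) from v j)
    rw [p₁.app_eq_appLE]
  refine ⟨fun j => (Scheme.ΓSpecIso (CommRingCat.of k)).hom.hom ((s.appLE ⊤ ⊤ hVU).hom (c j)), TMul.hom_ext_val ?_⟩
  have hval : ∀ φ : Fin r → (Coh.structureModule C ⟶ G),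
      TMul.val (∑ j, φ j) ⊤ = ∑ j, TMul.val (φ j) ⊤ := fun φ =>
    map_sum (AddMonoidHom.mk' (fun φ : Coh.structureModule C ⟶ G => TMul.val φ ⊤) fun _ _ => rfl) φ _
  rw [hval]
  refine (show TMul.val g ⊤ = (show Γ(G, ⊤) from ζ m) from hm.symm).trans ?_
  rw [hc, map_sum]
  refine Finset.sum_congr rfl fun j _ => ?_
  rw [← ProjMor.homOf_pullSec]
  change (show Γ(G, ⊤) from ζ (c j • v' j)) = resO C le_rfl
      (show Γ(C, ⊤) from Coh.toGlobal pC ((Scheme.ΓSpecIso (CommRingCat.of k)).hom.hom ((s.appLE ⊤ ⊤ hVU).hom (c j)))) •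
    TMul.val (TMul.homOf (L := G) (ProjUP.pullSec σ E₁ (show Γ(E₁, ⊤) from v j))) ⊤
  rw [map_smul, Groth.Agent.QC.resO_self, TMul.val_homOf]
  change (pC.appLE ⊤ ⊤ hC).hom ((s.appLE ⊤ ⊤ hVU).hom (c j)) • (show Γ(G, ⊤) from ζ (v' j)) = _
  have hsc : (show Γ(C, ⊤) from Coh.toGlobal pC
      ((Scheme.ΓSpecIso (CommRingCat.of k)).hom.hom ((s.appLE ⊤ ⊤ hVU).hom (c j)))) =
      (pC.appLE ⊤ ⊤ hC).hom ((s.appLE ⊤ ⊤ hVU).hom (c j)) := by
    change pC.appTop.hom ((Scheme.ΓSpecIso (CommRingCat.of k)).inv.hom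
      ((Scheme.ΓSpecIso (CommRingCat.of k)).hom.hom ((s.appLE ⊤ ⊤ hVU).hom (c j)))) = _
    refine (congrArg pC.appTop.hom (ConcreteCategory.congr_hom (Scheme.ΓSpecIso (CommRingCat.of k)).hom_inv_id _)).trans ?_
    simp [Scheme.Hom.appLE]
  rw [hsc]
  exact congrArg ((pC.appLE ⊤ ⊤ hC).hom ((s.appLE ⊤ ⊤ hVU).hom (c j)) • ·)
    ((Groth.Agent.QC.res_self _ _ _).trans (Groth.Agent.QC.res_self _ _ _).symm)

/-- Over a non-empty basic open, finitely many morphisms span the homomorphisms out of an invertible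
module on every fibre. -/
theorem exists_spanning_homs {L E : (Pic13.prodK k C q).Modules} (hL : PicF.IsInvertible L) (hE : Coh.IsCoh E) :
    ∃ a : A, a ≠ 0 ∧ ∃ (r : ℕ) (φ : Fin r →
        ((Scheme.Modules.pullback (PicBdd.prodMap k (X := C) (awayι a) (q' := awayι a ≫ q) rfl)).obj L ⟶
          (Scheme.Modules.pullback (PicBdd.prodMap k (X := C) (awayι a) (q' := awayι a ≫ q) rfl)).obj E)),
      ∀ (s : Spec (CommRingCat.of k) ⟶ Spec (CommRingCat.of (Localization.Away a))) (hs : s ≫ awayι a ≫ q = 𝟙 _)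
        (ψ : (Scheme.Modules.pullback (Pic13.sliceAt k C (awayι a ≫ q) s hs)).obj
            ((Scheme.Modules.pullback (PicBdd.prodMap k (X := C) (awayι a) (q' := awayι a ≫ q) rfl)).obj L) ⟶
          (Scheme.Modules.pullback (Pic13.sliceAt k C (awayι a ≫ q) s hs)).obj
            ((Scheme.Modules.pullback (PicBdd.prodMap k (X := C) (awayι a) (q' := awayι a ≫ q) rfl)).obj E)),
        ∃ b : Fin r → k, ψ = ∑ j, (Scheme.Modules.pullback (Pic13.sliceAt k C (awayι a ≫ q) s hs)).map (φ j) ≫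
          PicBdd.scal (show Γ(C, ⊤) from Coh.toGlobal (C ↘ Spec (CommRingCat.of k)) (b j)) _ := by
  classical
  haveI : IsLocallyNoetherian (Pic13.prodK k C q) :=
    LocallyOfFiniteType.isLocallyNoetherian (pullback.snd (C ↘ Spec (CommRingCat.of k)) q ≫ q)
  obtain ⟨L', hL', ⟨e⟩⟩ := SymAlg.exists_inverse hL
  let E' := CohB1.tensorMod E L'
  let eA : CohB1.tensorMod E' L ≅ E :=
    TMul.assocIso E L' L ≪≫ TMul.commIso _ _ ≪≫
      PicGrp.tensorModIso (TMul.commIso L' L ≪≫ e) (Iso.refl E) ≪≫ TMul.leftUnitIso E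
  obtain ⟨a, ha, r, h, hspan⟩ := exists_spanning_sections k q (CohFinite.isCoh_tensor hE hL')
  refine ⟨a, ha, ?_⟩
  let q₁ := awayι a ≫ q
  let J := PicBdd.prodMap k (X := C) (awayι a) (q' := q₁) rfl
  let L₁ := (Scheme.Modules.pullback J).obj L
  let O₁ := Coh.structureModule (Pic13.prodK k C q₁)
  let E'₁ := (Scheme.Modules.pullback J).obj E'
  let e₁ : CohB1.tensorMod E'₁ L₁ ≅ (Scheme.Modules.pullback J).obj E :=
    KFlat.pullTensorIso J E' L ≪≫ (Scheme.Modules.pullback J).mapIso eA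
  let e₀ : L₁ ≅ CohB1.tensorMod O₁ L₁ := (TMul.leftUnitIso L₁).symm
  refine ⟨r, fun j => e₀.hom ≫ CohFinite.tmap (h j) L₁ ≫ e₁.hom, fun s hs ψ => ?_⟩
  let σ := Pic13.sliceAt k C q₁ s hs
  let P := Scheme.Modules.pullback σ
  let τO := KFlat.pullTensorIso σ O₁ L₁
  let τE := KFlat.pullTensorIso σ E'₁ L₁
  let ι₀ := PicLoc.pullbackStructureIso σ
  let α : P.obj L₁ ⟶ CohB1.tensorMod (Coh.structureModule C) (P.obj L₁) :=
    P.map e₀.hom ≫ τO.inv ≫ CohFinite.tmap ι₀.hom (P.obj L₁)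
  haveI : IsIso (CohFinite.tmap ι₀.hom (P.obj L₁)) :=
    inferInstanceAs (IsIso (SerrePn.tmapIso ι₀ (P.obj L₁)).hom)
  haveI : IsIso α := inferInstance
  let β : CohB1.tensorMod (P.obj E'₁) (P.obj L₁) ⟶ P.obj ((Scheme.Modules.pullback J).obj E) :=
    τE.hom ≫ P.map e₁.hom
  haveI : IsIso β := inferInstance
  let eL := (Scheme.Modules.pullback σ).mapIso ((Scheme.Modules.pullback J).mapIso e)
  let eσ : CohB1.tensorMod (P.obj L₁) (P.obj ((Scheme.Modules.pullback J).obj L')) ≅ Coh.structureModule C :=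
    KFlat.pullTensorIso σ L₁ _ ≪≫ P.mapIso (KFlat.pullTensorIso J L L') ≪≫ eL ≪≫
      P.mapIso (PicLoc.pullbackStructureIso J) ≪≫ ι₀
  obtain ⟨g, hg⟩ := exists_tmap_eq eσ (M := Coh.structureModule C) (M' := P.obj E'₁) (inv α ≫ ψ ≫ inv β)
  obtain ⟨b, hb⟩ := hspan s hs g
  refine ⟨b, ?_⟩
  have hψ : ψ = α ≫ CohFinite.tmap g (P.obj L₁) ≫ β := by simp [hg]
  rw [hψ, hb, CohFinite.tmap_sum, Preadditive.sum_comp, Preadditive.comp_sum]
  refine Finset.sum_congr rfl fun j _ => ?_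
  rw [tmap_comp_scal]
  simp only [Category.assoc, PicBdd.scal_comp]
  simp only [← Category.assoc]
  refine congrArg (· ≫ PicBdd.scal _ _) ?_
  show (α ≫ CohFinite.tmap (ι₀.inv ≫ P.map (h j)) (P.obj L₁)) ≫ β = P.map (e₀.hom ≫ CohFinite.tmap (h j) L₁ ≫ e₁.hom)
  have hαι : CohFinite.tmap ι₀.hom (P.obj L₁) ≫ CohFinite.tmap (ι₀.inv ≫ P.map (h j)) (P.obj L₁) =
      CohFinite.tmap (P.map (h j)) (P.obj L₁) := by
    rw [← CohFinite.tmap_comp, Iso.hom_inv_id_assoc]
  simp only [α, β, Category.assoc, Functor.map_comp]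
  rw [reassoc_of% hαι]
  refine congrArg (P.map e₀.hom ≫ ·) ?_
  have h2 := pullback_map_tmap σ (h j) L₁
  rw [Iso.inv_comp_eq]
  exact (reassoc_of% h2) (P.map e₁.hom)

end Groth.Agent.PicProp
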