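import Groth.Agent.PicProp.Push
import Groth.Agent.CohBound.FlatQuot

/-!
Base change for affine morphisms; units and base change; kernels of the fibres of an epimorphism of
families form a bounded family.
-/

set_option autoImplicit false
set_option backward.isDefEq.respectTransparency false
set_option backward.isDefEq.respectTransparency.types false
set_option linter.style.haveILetI false
set_option linter.unusedSectionVars false
set_option maxHeartbeats 1000000

universe u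

open CategoryTheory CategoryTheory.Limits AlgebraicGeometry TopologicalSpace Opposite
open Groth.Agent.W7Cech
open Groth.Agent.QC (res resO res_res res_self res_smul app_res)

noncomputable section

namespace Groth.Agent.PicProp

section Square

variable {X S T X' : Scheme.{u}} {f : X ⟶ S} {g : T ⟶ S} {f' : X' ⟶ T} {g' : X' ⟶ X}

/-- Base change of the direct image along an affine morphism. -/
theorem isIso_bc0_affine [IsAffineHom f] (hsq : IsPullback g' f' f g) (F : X.Modules) (hq : Coh.IsQCoh F) :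
    IsIso (CohBC.bc0 f g f' g' hsq.w F) := by
  haveI : F.IsQuasicoherent := hq
  haveI : IsAffineHom f' := MorphismProperty.of_isPullback (P := @IsAffineHom) hsq ‹_›
  haveI : ((Scheme.Modules.pullback g').obj F).IsQuasicoherent := QC.isQCoh_pullback g' hq
  refine RelTilde.isIso_adjunct g (CohBC.bc0Adj f g f' g' hsq.w F)
    (QC.isQCoh_pushforward f) (QC.isQCoh_pushforward f') fun x => ?_
  obtain ⟨U, hU, hxU, -⟩ := exists_isAffineOpen_mem_and_subset (X := S) (x := g x) (U := ⊤) trivial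
  obtain ⟨V, hV, hxV, hVU⟩ := exists_isAffineOpen_mem_and_subset (X := T) (x := x) (U := g ⁻¹ᵁ U) hxU
  refine ⟨U, hU, V, hV, hVU, hxV, ?_⟩
  have hW : f' ⁻¹ᵁ V = g' ⁻¹ᵁ (f ⁻¹ᵁ U) ⊓ f' ⁻¹ᵁ V := by
    refine (inf_eq_right.mpr ?_).symm
    rw [← Scheme.Hom.comp_preimage, hsq.w, Scheme.Hom.comp_preimage]
    exact f'.preimage_mono hVU
  let A : Type u := Γ(S, U)
  let B : Type u := Γ(T, V)
  let G := (Scheme.Modules.pullback g').obj F
  letI : Algebra A B := (g.appLE U V hVU).hom.toAlgebra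
  letI : Module A (SM f' G (f' ⁻¹ᵁ V) le_rfl : Type u) := Module.compHom _ (g.appLE U V hVU).hom
  haveI : IsScalarTower A B (SM f' G (f' ⁻¹ᵁ V) le_rfl : Type u) :=
    IsScalarTower.of_algebraMap_smul fun _ _ => rfl
  have hζ := isBaseChange_pullPiece F hVU hsq hq hU hV (O := f ⁻¹ᵁ U) le_rfl (hU.preimage f) hW
  let ζ : (SM f F (f ⁻¹ᵁ U) le_rfl : Type u) →ₗ[A] (SM f' G (f' ⁻¹ᵁ V) le_rfl : Type u) :=
    pullPiece F hVU hsq.w le_rfl (hW.le.trans inf_le_left) (hW.le.trans inf_le_right)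
  intro Q _ _ w
  letI : Module A Q := Module.compHom Q (g.appLE U V hVU).hom
  haveI : IsScalarTower A B Q := IsScalarTower.of_algebraMap_smul fun _ _ => rfl
  let w' : (SM f F (f ⁻¹ᵁ U) le_rfl : Type u) →ₗ[A] Q :=
    { toFun := fun s => w (show Γ((Scheme.Modules.pushforward f).obj F, U) from s)
      map_add' := fun s t => map_add w _ _
      map_smul' := fun a s => by
        refine (congrArg w ?_).trans (map_smulₛₗ w a (show Γ((Scheme.Modules.pushforward f).obj F, U) from s))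
        change (f.appLE U (f ⁻¹ᵁ U) le_rfl).hom a • (show Γ(F, f ⁻¹ᵁ U) from s) =
          (f.app U).hom a • (show Γ(F, f ⁻¹ᵁ U) from s)
        rw [← f.app_eq_appLE] }
  have hN : ∀ (b : B) (x : Γ(G, f' ⁻¹ᵁ V)),
      (f'.appLE V (f' ⁻¹ᵁ V) le_rfl).hom b • x = (f'.app V).hom b • x := fun b x => by
    rw [← f'.app_eq_appLE]
  let eN : (SM f' G (f' ⁻¹ᵁ V) le_rfl : Type u) ≃ₗ[B]
      Γ((Scheme.Modules.pushforward f').obj G, V) :=
    { toFun := fun x => (show Γ(G, f' ⁻¹ᵁ V) from x)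
      invFun := fun x => (show Γ(G, f' ⁻¹ᵁ V) from x)
      left_inv := fun _ => rfl
      right_inv := fun _ => rfl
      map_add' := fun _ _ => rfl
      map_smul' := fun b x => hN b (show Γ(G, f' ⁻¹ᵁ V) from x) }
  have key : ∀ s : Γ((Scheme.Modules.pushforward f).obj F, U),
      RelTilde.resθ g (CohBC.bc0Adj f g f' g' hsq.w F) hVU s =
        eN (ζ (show (SM f F (f ⁻¹ᵁ U) le_rfl : Type u) from s)) := fun s =>
    res_res G _ _ _
  refine ⟨(hζ.lift w') ∘ₗ eN.symm.toLinearMap, fun s => ?_, fun k hk => LinearMap.ext fun x => ?_⟩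
  · rw [key, LinearMap.comp_apply, LinearEquiv.coe_toLinearMap, LinearEquiv.symm_apply_apply]
    exact hζ.lift_eq w' _
  · have h2 : k ∘ₗ eN.toLinearMap = hζ.lift w' := hζ.algHom_ext _ _ fun s => by
      rw [hζ.lift_eq]
      exact (congrArg k (key s).symm).trans (hk s)
    rw [← h2]
    rfl

variable (w : g' ≫ f = f' ≫ g)

/-- Inverse images around a commutative square. -/
def sqIso : Scheme.Modules.pullback f ⋙ Scheme.Modules.pullback g' ≅
    Scheme.Modules.pullback g ⋙ Scheme.Modules.pullback f' :=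
  Scheme.Modules.pullbackComp g' f ≪≫ Scheme.Modules.pullbackCongr w ≪≫ (Scheme.Modules.pullbackComp f' g).symm

theorem sqIso_inv_app (F : S.Modules) : (sqIso w).inv.app F = (Scheme.Modules.pullbackComp f' g).hom.app F ≫
    (Scheme.Modules.pullbackCongr w.symm).hom.app F ≫ (Scheme.Modules.pullbackComp g' f).inv.app F := by
  have hinv : (Scheme.Modules.pullbackCongr w).inv = (Scheme.Modules.pullbackCongr w.symm).hom := by
    simp [Scheme.Modules.pullbackCongr]
  simp [sqIso, hinv]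

/-- The comparison around the square on inverse images of sections. -/
theorem sqIso_inv_pullSect (F : S.Modules) (U : S.Opens) (m : Γ(F, U)) (hO : f' ⁻¹ᵁ (g ⁻¹ᵁ U) ≤ g' ⁻¹ᵁ (f ⁻¹ᵁ U)) :
    ((sqIso w).inv.app F).app (f' ⁻¹ᵁ (g ⁻¹ᵁ U))
      (OmegaSh.pullSect f' ((Scheme.Modules.pullback g).obj F) (g ⁻¹ᵁ U) (OmegaSh.pullSect g F U m)) =
      res _ hO (OmegaSh.pullSect g' ((Scheme.Modules.pullback f).obj F) (f ⁻¹ᵁ U) (OmegaSh.pullSect f F U m)) := by
  rw [sqIso_inv_app]
  refine (congrArg (fun z => (((Scheme.Modules.pullbackComp g' f).inv.app F).app (f' ⁻¹ᵁ (g ⁻¹ᵁ U)))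
    ((((Scheme.Modules.pullbackCongr w.symm).hom.app F).app (f' ⁻¹ᵁ (g ⁻¹ᵁ U))) z))
    (QC.pullbackComp_hom_pullSect f' g F U m)).trans ?_
  refine (congrArg (fun z => ((Scheme.Modules.pullbackComp g' f).inv.app F).app (f' ⁻¹ᵁ (g ⁻¹ᵁ U)) z)
    (QC.pullbackCongr_hom_pullSect w.symm F U m)).trans ?_
  refine (app_res ((Scheme.Modules.pullbackComp g' f).inv.app F) hO (OmegaSh.pullSect (g' ≫ f) F U m)).symm.trans ?_
  refine congrArg (res _ hO) ?_
  refine (congrArg (fun z => ((Scheme.Modules.pullbackComp g' f).inv.app F).app (g' ⁻¹ᵁ (f ⁻¹ᵁ U)) z)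
    (QC.pullbackComp_hom_pullSect g' f F U m)).symm.trans ?_
  exact congr(($((Scheme.Modules.pullbackComp g' f).hom_inv_id_app F)).app (g' ⁻¹ᵁ (f ⁻¹ᵁ U)) _)

/-- The unit is compatible with base change of direct images. -/
theorem pullback_map_unit_bc0 (F : S.Modules) {G : X.Modules} (χ : (Scheme.Modules.pullback f).obj F ⟶ G) :
    (Scheme.Modules.pullback g).map ((Scheme.Modules.pullbackPushforwardAdjunction f).unit.app F ≫
        (Scheme.Modules.pushforward f).map χ) ≫ CohBC.bc0 f g f' g' w G =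
      (Scheme.Modules.pullbackPushforwardAdjunction f').unit.app ((Scheme.Modules.pullback g).obj F) ≫
        (Scheme.Modules.pushforward f').map ((sqIso w).inv.app F ≫ (Scheme.Modules.pullback g').map χ) := by
  apply ((Scheme.Modules.pullbackPushforwardAdjunction g).homEquiv _ _).injective
  rw [Adjunction.homEquiv_naturality_left, CohBC.bc0, Equiv.apply_symm_apply, Adjunction.homEquiv_unit]
  refine Scheme.Modules.hom_ext _ _ fun U => ?_
  ext m
  let O := f' ⁻¹ᵁ (g ⁻¹ᵁ U)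
  have hO : O ≤ g' ⁻¹ᵁ (f ⁻¹ᵁ U) := by
    rw [← Scheme.Hom.comp_preimage, w, Scheme.Hom.comp_preimage]
  change res _ hO (OmegaSh.pullSect g' G (f ⁻¹ᵁ U) (χ.app (f ⁻¹ᵁ U) (OmegaSh.pullSect f F U m))) =
    ((Scheme.Modules.pullback g').map χ).app O (((sqIso w).inv.app F).app O
      (OmegaSh.pullSect f' ((Scheme.Modules.pullback g).obj F) (g ⁻¹ᵁ U) (OmegaSh.pullSect g F U m)))
  refine Eq.trans ?_ (congrArg (fun z => ((Scheme.Modules.pullback g').map χ).app O z)
    (sqIso_inv_pullSect w F U m hO)).symm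
  refine Eq.trans ?_ (app_res ((Scheme.Modules.pullback g').map χ) hO _)
  exact congrArg (res _ hO) (QC.app_pullSect g' χ (f ⁻¹ᵁ U) _).symm

end Square

section Kernel

variable (k : Type u) [Field k] {Z : Scheme.{u}} [Z.Over (Spec (CommRingCat.of k))]
  [IsProper (Z ↘ Spec (CommRingCat.of k))]

/-- Kernels of the fibres of an epimorphism of coherent families form a bounded family. -/
theorem isBounded_kernel {T : Scheme.{u}} (q : T ⟶ Spec (CommRingCat.of k)) [LocallyOfFiniteType q]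
    [QuasiCompact q] {F H : (Pic13.prodK k Z q).Modules} (hF : Coh.IsCoh F) (hH : Coh.IsCoh H) (ψ : F ⟶ H) [Epi ψ] :
    Pic13.IsBounded k Z (fun N => ∃ (t : Spec (CommRingCat.of k) ⟶ T) (ht : t ≫ q = 𝟙 _),
      Nonempty (kernel ((Scheme.Modules.pullback (Pic13.sliceAt k Z q t ht)).map ψ) ≅ N)) := by
  refine PicBdd.isBounded_mono k (isBounded_of_generic k q (fun t N => ∀ ht : t ≫ q = 𝟙 _,
    Nonempty (kernel ((Scheme.Modules.pullback (Pic13.sliceAt k Z q t ht)).map ψ) ≅ N)) ?_)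
    fun N ⟨t, ht, he⟩ => ⟨t, ht, fun _ => he⟩
  intro A _ _ j hjq
  let qA := j ≫ q
  haveI : LocallyOfFiniteType qA := hjq
  let J := PicBdd.prodMap k (X := Z) j (q' := qA) rfl
  let pA := pullback.snd (Z ↘ Spec (CommRingCat.of k)) qA
  let HA := (Scheme.Modules.pullback J).obj H
  have hHA : Coh.IsCoh HA := QC.isCoh_pullback J hH
  haveI := hHA.1
  obtain ⟨U, hU, hflat⟩ := FlatModBC.exists_opens_flatAt pA HA hHA.2
  obtain ⟨b, hb, hbU⟩ : ∃ b : A, b ≠ 0 ∧ ∀ x : Spec (CommRingCat.of A), x ∈ PrimeSpectrum.basicOpen b → x ∈ U := by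
    obtain ⟨z, hz⟩ := hU
    obtain ⟨_, ⟨b, rfl⟩, hzb, hbU⟩ :=
      PrimeSpectrum.isTopologicalBasis_basic_opens.exists_subset_of_mem_open hz U.2
    refine ⟨b, fun h0 => ?_, fun x hx => hbU hx⟩
    subst h0
    simp at hzb
  refine ⟨b, hb, ?_⟩
  let q₁ := awayι b ≫ qA
  haveI : LocallyOfFiniteType (awayι (A := A) b) := inferInstance
  haveI : LocallyOfFiniteType q₁ := inferInstance
  let J₁ := PicBdd.prodMap k (X := Z) (awayι b) (q' := q₁) rfl
  let P := Scheme.Modules.pullback J ⋙ Scheme.Modules.pullback J₁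
  let ψ₁ := P.map ψ
  haveI : Epi ψ₁ := inferInstanceAs (Epi ((Scheme.Modules.pullback J₁).map ((Scheme.Modules.pullback J).map ψ)))
  have hF₁ : Coh.IsCoh (P.obj F) := QC.isCoh_pullback J₁ (QC.isCoh_pullback J hF)
  have hH₁ : Coh.IsCoh (P.obj H) := QC.isCoh_pullback J₁ hHA
  haveI : IsLocallyNoetherian (Pic13.prodK k Z q₁) :=
    LocallyOfFiniteType.isLocallyNoetherian (pullback.snd (Z ↘ Spec (CommRingCat.of k)) q₁ ≫ q₁)
  refine ⟨Spec (CommRingCat.of (Localization.Away b)), q₁, inferInstance, inferInstance, kernel ψ₁,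
    QC.isCoh_kernel hF₁ hH₁.1 ψ₁, ?_⟩
  rintro N ⟨s, hs, hB⟩
  have hs' : s ≫ q₁ = 𝟙 _ := hs
  refine ⟨s, hs', ?_⟩
  let σ := Pic13.sliceAt k Z q₁ s hs'
  let p₁ := pullback.snd (Z ↘ Spec (CommRingCat.of k)) q₁
  have hsq := PicBdd.isPullback_prodMap k (X := Z) (awayι b) (q := qA) (q' := q₁) rfl
  have hfl : ∀ y, FlatMod.IsFlatOverAt p₁ (P.obj H) y := fun y => by
    refine FlatModBC.isFlatOverAt_baseChange hsq HA y (hflat _ (hbU _ ?_))
    rw [show pA.base (J₁.base y) = (awayι b).base (p₁.base y) from congrArg (fun φ => φ.base y) hsq.w]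
    exact (PrimeSpectrum.localization_away_comap_range (Localization.Away b) b).le ⟨p₁.base y, rfl⟩
  let S := ShortComplex.mk (kernel.ι ψ₁) ψ₁ (kernel.condition ψ₁)
  have hS : S.ShortExact := { exact := ShortComplex.exact_of_f_is_kernel _ (kernelIsKernel ψ₁) }
  let e := (isPullback_slice k Z q₁ s hs').isoPullback
  have hS' : ((S.map (Scheme.Modules.pullback (pullback.fst p₁ s))).map
      (Scheme.Modules.pullback e.hom)).ShortExact :=
    (CohBound.shortExact_pullback_fst p₁ s hS fun y _ => hfl y).map_of_exact _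
  let θ : Scheme.Modules.pullback (pullback.fst p₁ s) ⋙ Scheme.Modules.pullback e.hom ≅ Scheme.Modules.pullback σ :=
    Scheme.Modules.pullbackComp e.hom (pullback.fst p₁ s) ≪≫
      Scheme.Modules.pullbackCongr (isPullback_slice k Z q₁ s hs').isoPullback_hom_fst
  let e₁ : (Scheme.Modules.pullback σ).obj (kernel ψ₁) ≅ kernel ((Scheme.Modules.pullback σ).map ψ₁) :=
    (θ.app _).symm ≪≫ (hS'.fIsKernel.conePointUniqueUpToIso (limit.isLimit _)) ≪≫
      kernel.mapIso _ _ (θ.app _) (θ.app _) (θ.hom.naturality ψ₁)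
  have ht : (s ≫ awayι b ≫ j) ≫ q = 𝟙 _ := by simpa only [qA, q₁, Category.assoc] using hs'
  have hσ : (σ ≫ J₁) ≫ J = Pic13.sliceAt k Z q (s ≫ awayι b ≫ j) ht := by
    refine pullback.hom_ext ?_ ?_ <;> simp [σ, J₁, J, PicBdd.prodMap, Pic13.sliceAt]
  let κ : P ⋙ Scheme.Modules.pullback σ ≅ Scheme.Modules.pullback (Pic13.sliceAt k Z q (s ≫ awayι b ≫ j) ht) :=
    Functor.associator _ _ _ ≪≫ Functor.isoWhiskerLeft _ (Scheme.Modules.pullbackComp σ J₁) ≪≫
      Scheme.Modules.pullbackComp (σ ≫ J₁) J ≪≫ Scheme.Modules.pullbackCongr hσ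
  obtain ⟨eN⟩ := hB ht
  exact ⟨e₁ ≪≫ kernel.mapIso _ _ (κ.app F) (κ.app H) (κ.hom.naturality ψ) ≪≫ eN⟩

end Kernel

end Groth.Agent.PicProp
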