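import Groth.Agent.Intersect.Push
import Groth.Agent.ClSubLib.AnnIdeal
import Groth.Agent.CohQC.Restrict
import Groth.Agent.C1Cap.PullGen
import Groth.Agent.TMul.Power
import Groth.Agent.QC.IdealMod
import Groth.Agent.S3852

/-!
An invertible module against its direct image from a modification and its restriction to a
thickened boundary: the pair of units is a monomorphism with killed cokernel, uniformly in the module.
-/

set_option autoImplicit false
set_option backward.isDefEq.respectTransparency false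
set_option backward.isDefEq.respectTransparency.types false
set_option linter.style.haveILetI false
set_option linter.unusedSectionVars false
set_option maxHeartbeats 1000000

universe u

open CategoryTheory CategoryTheory.Limits AlgebraicGeometry TopologicalSpace Opposite
open Groth.Agent.QC (res resO res_res res_self res_smul app_res)
open TMul (IsGen)

noncomputable section

namespace Groth.Agent.PicProp

attribute [local instance] Abelian.hasFiniteBiproducts

variable {X Y : Scheme.{u}}

/-- A section dying in the cokernel is an image on an affine open. -/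
theorem exists_app_eq_of_cokernel {M N : Y.Modules} (hM : Coh.IsQCoh M) (hN : Coh.IsQCoh N) (φ : M ⟶ N)
    {V : Y.Opens} (hV : IsAffineOpen V) (t : Γ(N, V)) (ht : (cokernel.π φ).app V t = 0) :
    ∃ s, φ.app V s = t := by
  obtain ⟨z, rfl⟩ := (QC.mem_range_kernel_app (cokernel.π φ) V t).2 ht
  obtain ⟨s, rfl⟩ := QC.app_surjective_of_epi hV hM
    (QC.isQCoh_kernel hN (QC.isQCoh_cokernel hM hN φ) (cokernel.π φ)) (Abelian.factorThruImage φ) z
  exact ⟨s, congr(($(Abelian.image.fac φ)).app V s).symm⟩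

theorem bijective_res_of_eq {M : Y.Modules} {U V : Y.Opens} (h : V ≤ U) (e : V = U) :
    Function.Bijective (res M h) := by
  subst e
  have : ⇑(res M h) = id := funext (res_self M h)
  rw [this]
  exact Function.bijective_id

/-- Pulling sections back along an open immersion is bijective inside its range. -/
theorem bijective_eta_open (g : X ⟶ Y) [IsOpenImmersion g] (M : Y.Modules) {W : Y.Opens}
    (hW : W ≤ g.opensRange) : Function.Bijective (OmegaSh.pullSect g M W) := by
  rw [show ⇑(OmegaSh.pullSect g M W) = _ from funext fun m => (QC.restrictIso_hom_pullSect g M W m).symm]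
  refine (ConcreteCategory.bijective_of_isIso
    (((Scheme.Modules.restrictFunctorIsoPullback g).hom.app M).app (g ⁻¹ᵁ W))).comp ?_
  refine bijective_res_of_eq (g.image_preimage_le W) ?_
  rw [g.image_preimage_eq_opensRange_inf, inf_eq_right.mpr hW]

variable (π : X ⟶ Y) (U : Y.Opens) [IsIso (π ∣_ U)]

/-- Pulling sections back is bijective where the morphism is an isomorphism. -/
theorem bijective_eta_of_isIso (M : Y.Modules) {V : Y.Opens} (hV : V ≤ U) :
    Function.Bijective (OmegaSh.pullSect π M V) := by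
  let g := (π ⁻¹ᵁ U).ι
  haveI : IsOpenImmersion (g ≫ π) := by
    rw [← morphismRestrict_ι π U]
    infer_instance
  have h1 : Function.Bijective (OmegaSh.pullSect (g ≫ π) M V) := by
    refine bijective_eta_open (g ≫ π) M (le_trans hV fun x hx => ?_)
    obtain ⟨z, hz⟩ := (π ∣_ U).surjective ⟨x, hx⟩
    exact ⟨z, (morphismRestrict_base_coe π U z).symm.trans (congrArg Subtype.val hz)⟩
  have h2 : Function.Bijective (OmegaSh.pullSect g ((Scheme.Modules.pullback π).obj M) (π ⁻¹ᵁ V)) := by
    refine bijective_eta_open g _ ?_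
    rw [Scheme.Opens.opensRange_ι]
    exact π.preimage_mono hV
  rw [show ⇑(OmegaSh.pullSect (g ≫ π) M V) = _ from
    funext fun m => (QC.pullbackComp_hom_pullSect g π M V m).symm] at h1
  refine (Function.Bijective.of_comp_iff' h2 _).mp ?_
  exact (Function.Bijective.of_comp_iff' (ConcreteCategory.bijective_of_isIso
    (((Scheme.Modules.pullbackComp g π).hom.app M).app (g ⁻¹ᵁ (π ⁻¹ᵁ V)))) _).mp h1

theorem bijective_app_of_isIso {V : Y.Opens} (hV : V ≤ U) : Function.Bijective (π.app V) := by
  have h : IsIso (π.app (U.ι ''ᵁ (U.ι ⁻¹ᵁ V))) := by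
    have := morphismRestrict_app π U (U.ι ⁻¹ᵁ V)
    haveI : IsIso (π.app (U.ι ''ᵁ (U.ι ⁻¹ᵁ V)) ≫
        X.presheaf.map (eqToHom (image_morphismRestrict_preimage π U (U.ι ⁻¹ᵁ V))).op) := by
      rw [← this]; infer_instance
    exact IsIso.of_isIso_comp_right _ (X.presheaf.map (eqToHom (image_morphismRestrict_preimage π U (U.ι ⁻¹ᵁ V))).op)
  rw [show U.ι ''ᵁ (U.ι ⁻¹ᵁ V) = V by
    rw [Scheme.Hom.image_preimage_eq_opensRange_inf, Scheme.Opens.opensRange_ι, inf_eq_right.mpr hV]] at h
  exact ConcreteCategory.bijective_of_isIso (π.app V)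

/-- The reduced boundary of the open. -/
abbrev bdry : Y.IdealSheafData :=
  Scheme.IdealSheafData.vanishingIdeal (⟨(U : Set Y)ᶜ, U.2.isClosed_compl⟩ : Closeds Y)

/-- A coherent module without sections over the open is killed by a power of the boundary ideal. -/
theorem exists_pow_killed [IsNoetherian Y] {W : Y.Modules} (hW : Coh.IsCoh W)
    (h : ∀ V : Y.affineOpens, V.1 ≤ U → ∀ s : Γ(W, V.1), s = 0) :
    ∃ n, ClSub.KilledByIdeal (bdry U ^ (n + 1)) W := by
  obtain ⟨n, hn⟩ := Groth.Agent.S3852.result Y (bdry U) (ClSubLib.annIdeal W hW.1 hW.2) (by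
    rw [← Scheme.IdealSheafData.range_subschemeι, ClSubLib.range_annIdeal,
      Scheme.IdealSheafData.coe_support_vanishingIdeal]
    intro y hy hyU
    refine (QC.notMem_support_iff y).2 (fun O hyO s => ?_) hy
    obtain ⟨V, hyV, hVO⟩ := ClSubLib.exists_affine_le (W := O ⊓ U) (y := y) ⟨hyO, hyU⟩
    exact ⟨V.1, hVO.trans inf_le_left, hyV, h V (hVO.trans inf_le_right) _⟩)
  exact ⟨n, fun V a ha m => ClSubLib.killedBy_annIdeal W hW.1 hW.2 V a (hn V ha) m⟩

variable [IsProper π] [IsNoetherian Y]

/-- Functions on the target and on the modification, up to a thickened boundary. -/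
theorem exists_good : ∃ m : ℕ,
    (∀ (V : Y.Opens) (r : Γ(Y, V)), π.app V r = 0 → (bdry U ^ (m + 1)).subschemeι.app V r = 0 → r = 0) ∧
    (∀ (V : Y.affineOpens) (y : Γ(Y, V.1)), y ∈ (bdry U ^ (m + 1)).ideal V → ∀ b : Γ(X, π ⁻¹ᵁ V.1),
      ∃ r, π.app V.1 r = π.app V.1 y * b) := by
  classical
  haveI : IsLocallyNoetherian X := LocallyOfFiniteType.isLocallyNoetherian π
  let η₀ := ClSub.unitToPush π
  have hO : Coh.IsCoh (Coh.structureModule Y) := RefStalk.isCoh_structureModule
  have hP : Coh.IsCoh ((Scheme.Modules.pushforward π).obj (Coh.structureModule X)) :=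
    Intersect.isCoh_push' π RefStalk.isCoh_structureModule
  obtain ⟨n₁, hn₁⟩ := exists_pow_killed U (QC.isCoh_kernel hO hP.1 η₀) fun V hV s => by
    refine QC.app_injective_of_mono (kernel.ι η₀) V.1 (Eq.trans ?_ (map_zero _).symm)
    refine (bijective_app_of_isIso π U hV).1 (Eq.trans ?_ (map_zero _).symm)
    exact congr(($(kernel.condition η₀)).app V.1 s)
  obtain ⟨n₂, hn₂⟩ := exists_pow_killed U (QC.isCoh_cokernel hO.1 hP η₀) fun V hV s => by
    obtain ⟨t, rfl⟩ := QC.app_surjective_of_epi V.2 hP.1 (QC.isQCoh_cokernel hO.1 hP.1 η₀) (cokernel.π η₀) s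
    obtain ⟨r, rfl⟩ := (bijective_app_of_isIso π U hV).2 t
    exact congr(($(cokernel.condition η₀)).app V.1 r)
  obtain ⟨κ, hκ, V₀, hV₀, -, hcov⟩ := QC.exists_finite_affine_cover (X := Y) (W := ⊤) CompactSpace.isCompact_univ
  haveI := hκ
  haveI : Fintype κ := Fintype.ofFinite κ
  have hAR : ∀ i : κ, ∃ k₀ : ℕ, ∀ m, k₀ ≤ m → ∀ r : Γ(Y, V₀ i), π.app (V₀ i) r = 0 →
      r ∈ (bdry U).ideal ⟨V₀ i, hV₀ i⟩ ^ m → r = 0 := fun i => by
    haveI : IsNoetherianRing Γ(Y, V₀ i) := IsLocallyNoetherian.component_noetherian ⟨V₀ i, hV₀ i⟩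
    obtain ⟨c, hc⟩ := ((bdry U).ideal ⟨V₀ i, hV₀ i⟩).exists_pow_inf_eq_pow_smul
      (RingHom.ker (π.app (V₀ i)).hom : Submodule Γ(Y, V₀ i) Γ(Y, V₀ i))
    refine ⟨c + n₁ + 1, fun m hm r hr hmem => ?_⟩
    have hr' : r ∈ (bdry U).ideal ⟨V₀ i, hV₀ i⟩ ^ (m - c) •
        (RingHom.ker (π.app (V₀ i)).hom : Submodule Γ(Y, V₀ i) Γ(Y, V₀ i)) := by
      refine Submodule.smul_mono le_rfl inf_le_right ((hc m (by omega)).le ⟨?_, hr⟩)
      simpa using hmem
    refine Submodule.smul_induction_on (p := fun x => x = 0) hr' (fun a ha z hz => ?_)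
      (fun x y hx hy => by rw [hx, hy, add_zero])
    obtain ⟨w, hw⟩ := (QC.mem_range_kernel_app η₀ (V₀ i) z).2 hz
    have h0 : a • w = 0 := hn₁ ⟨V₀ i, hV₀ i⟩ a (by
      rw [Scheme.IdealSheafData.ideal_pow, Pi.pow_apply]
      exact Ideal.pow_le_pow_right (by omega) ha) w
    have h1 := congrArg ((kernel.ι η₀).app (V₀ i)) h0
    rw [Scheme.Modules.Hom.app_smul, map_zero, hw] at h1
    exact h1
  choose k₀ hk₀ using hAR
  refine ⟨Finset.univ.sup k₀ + n₂, ?_, fun V y hy b => ?_⟩
  · let ι := (bdry U ^ (Finset.univ.sup k₀ + n₂ + 1)).subschemeι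
    let p₁ : (Scheme.Modules.pushforward π).obj (Coh.structureModule X) ⊞
        (Scheme.Modules.pushforward ι).obj (Coh.structureModule _) ⟶ _ := biprod.fst
    let p₂ : (Scheme.Modules.pushforward π).obj (Coh.structureModule X) ⊞
        (Scheme.Modules.pushforward ι).obj (Coh.structureModule _) ⟶ _ := biprod.snd
    let φ : Coh.structureModule Y ⟶ (Scheme.Modules.pushforward π).obj (Coh.structureModule X) ⊞
        (Scheme.Modules.pushforward ι).obj (Coh.structureModule _) := biprod.lift η₀ (ClSub.unitToPush ι)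
    have hq : Coh.IsQCoh ((Scheme.Modules.pushforward ι).obj (Coh.structureModule _)) := by
      haveI : (Coh.structureModule (bdry U ^ (Finset.univ.sup k₀ + n₂ + 1)).subscheme).IsQuasicoherent := QC.isQCoh_unit _
      exact QC.isQCoh_pushforward ι
    have hker : kernel.ι φ = 0 := by
      refine Scheme.Modules.hom_ext _ _ fun W => ?_
      ext t
      refine QC.section_eq_of_locally fun x hx => ?_
      obtain ⟨i, hi⟩ := hcov x trivial
      have hK := QC.isQCoh_kernel hO.1 (CohQC.isQCoh_biprod hP.1 hq) φ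
      obtain ⟨g, hg, hxg⟩ := (hV₀ i).exists_basicOpen_le (V := W) ⟨x, hx⟩ hi
      refine ⟨Y.basicOpen g, hg, hxg, ?_⟩
      obtain ⟨n, s, hs⟩ := (QC.isLoc_of_isQCoh (hV₀ i) (hM := hK)).exists_extend g (res _ hg t)
      have hz : (kernel.ι φ).app (V₀ i) s = 0 := by
        have hc := congr(($(kernel.condition φ)).app (V₀ i) s)
        have h1 : η₀.app (V₀ i) ((kernel.ι φ).app (V₀ i) s) = 0 :=
          (congr(($(biprod.lift_fst η₀ (ClSub.unitToPush ι))).app (V₀ i) ((kernel.ι φ).app (V₀ i) s))).symm.trans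
            ((congrArg (p₁.app (V₀ i)) hc).trans (map_zero _))
        have h2 : ι.app (V₀ i) ((kernel.ι φ).app (V₀ i) s) = 0 :=
          (congr(($(biprod.lift_snd η₀ (ClSub.unitToPush ι))).app (V₀ i) ((kernel.ι φ).app (V₀ i) s))).symm.trans
            ((congrArg (p₂.app (V₀ i)) hc).trans (map_zero _))
        let r₀ : Γ(Y, V₀ i) := (kernel.ι φ).app (V₀ i) s
        refine hk₀ i (Finset.univ.sup k₀ + n₂ + 1)
          ((Finset.le_sup (f := k₀) (Finset.mem_univ i)).trans (by omega)) r₀ h1 ?_
        have h3 : r₀ ∈ ι.ker.ideal ⟨V₀ i, hV₀ i⟩ := by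
          rw [Scheme.Hom.ker_apply, RingHom.mem_ker]; exact h2
        rwa [show ι.ker = _ from Scheme.IdealSheafData.ker_subschemeι _, Scheme.IdealSheafData.ideal_pow,
          Pi.pow_apply] at h3
      have hs' := congrArg ((kernel.ι φ).app (Y.basicOpen g)) hs
      rw [← app_res, hz, map_zero, Scheme.Modules.Hom.app_smul, ← app_res] at hs'
      have hu : IsUnit (QC.resO Y (Y.basicOpen_le g) g ^ n : Γ(Y, Y.basicOpen g)) :=
        (RingedSpace.isUnit_res_basicOpen Y.toRingedSpace g).pow n
      exact (hu.smul_eq_zero.mp hs'.symm).trans (map_zero _).symm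
    haveI : Mono φ := Abelian.mono_of_kernel_ι_eq_zero φ hker
    intro V r h1 h2
    refine QC.app_injective_of_mono φ V (Eq.trans ?_ (map_zero _).symm)
    have e := congr(($(biprod.total (X := (Scheme.Modules.pushforward π).obj (Coh.structureModule X))
      (Y := (Scheme.Modules.pushforward ι).obj (Coh.structureModule _)))).app V (φ.app V r))
    refine e.symm.trans ?_
    have e1 : p₁.app V (φ.app V r) = 0 :=
      (congr(($(biprod.lift_fst η₀ (ClSub.unitToPush ι))).app V r)).trans h1
    have e2 : p₂.app V (φ.app V r) = 0 :=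
      (congr(($(biprod.lift_snd η₀ (ClSub.unitToPush ι))).app V r)).trans h2
    change (biprod.inl (X := (Scheme.Modules.pushforward π).obj (Coh.structureModule X))
        (Y := (Scheme.Modules.pushforward ι).obj (Coh.structureModule _))).app V (p₁.app V (φ.app V r)) +
      (biprod.inr (X := (Scheme.Modules.pushforward π).obj (Coh.structureModule X))
        (Y := (Scheme.Modules.pushforward ι).obj (Coh.structureModule _))).app V (p₂.app V (φ.app V r)) = 0
    rw [e1, e2, map_zero, map_zero, add_zero]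
  · have h0 : y • (cokernel.π η₀).app V.1 b = 0 := hn₂ V y (by
      rw [Scheme.IdealSheafData.ideal_pow, Pi.pow_apply] at hy ⊢
      exact Ideal.pow_le_pow_right (by omega) hy) _
    rw [← Scheme.Modules.Hom.app_smul] at h0
    exact exists_app_eq_of_cokernel hO.1 hP.1 η₀ V.2 _ h0

/-- The pair of units of an invertible module is a monomorphism with killed cokernel. -/
theorem exists_glue_data : ∃ m : ℕ, ∀ M : Y.Modules, PicF.IsInvertible M →
    let i := (bdry U ^ (m + 1)).subschemeι
    let v : M ⟶ (Scheme.Modules.pushforward π).obj ((Scheme.Modules.pullback π).obj M) ⊞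
        (Scheme.Modules.pushforward i).obj ((Scheme.Modules.pullback i).obj M) :=
      biprod.lift ((Scheme.Modules.pullbackPushforwardAdjunction π).unit.app M)
      ((Scheme.Modules.pullbackPushforwardAdjunction i).unit.app M)
    Mono v ∧ ClSub.KilledByIdeal (bdry U ^ (m + 1 + (m + 1))) (cokernel v) := by
  haveI : IsLocallyNoetherian X := LocallyOfFiniteType.isLocallyNoetherian π
  obtain ⟨m, hmono, hcok⟩ := exists_good π U
  refine ⟨m, fun M hM => ?_⟩
  intro i v
  let A := (Scheme.Modules.pushforward π).obj ((Scheme.Modules.pullback π).obj M)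
  let B := (Scheme.Modules.pushforward i).obj ((Scheme.Modules.pullback i).obj M)
  have hMq : Coh.IsQCoh M := TMul.isQCoh_of_isInvertible hM
  have hA : Coh.IsQCoh A := by
    haveI : ((Scheme.Modules.pullback π).obj M).IsQuasicoherent := QC.isQCoh_pullback π hMq
    exact QC.isQCoh_pushforward π
  have hB : Coh.IsQCoh B := by
    haveI : ((Scheme.Modules.pullback i).obj M).IsQuasicoherent := QC.isQCoh_pullback i hMq
    exact QC.isQCoh_pushforward i
  have hfst : ∀ (O : Y.Opens) (s : Γ(M, O)), (biprod.fst : A ⊞ B ⟶ A).app O (v.app O s) = ProjMor.eta π M O s :=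
    fun O s => congr(($(biprod.lift_fst ((Scheme.Modules.pullbackPushforwardAdjunction π).unit.app M)
      ((Scheme.Modules.pullbackPushforwardAdjunction i).unit.app M))).app O s)
  have hsnd : ∀ (O : Y.Opens) (s : Γ(M, O)), (biprod.snd : A ⊞ B ⟶ B).app O (v.app O s) = ProjMor.eta i M O s :=
    fun O s => congr(($(biprod.lift_snd ((Scheme.Modules.pullbackPushforwardAdjunction π).unit.app M)
      ((Scheme.Modules.pullbackPushforwardAdjunction i).unit.app M))).app O s)
  constructor
  · refine (QC.mono_iff_app_injective v).2 fun O => ?_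
    refine (injective_iff_map_eq_zero _).2 fun s hs => QC.section_eq_of_locally fun x hx => ?_
    obtain ⟨V, e, hxV, he⟩ := TMul.exists_isGen hM x
    let W := O ⊓ V
    have heW := he.res (inf_le_right : W ≤ V)
    refine ⟨W, inf_le_left, ⟨hx, hxV⟩, ?_⟩
    obtain ⟨c, hc⟩ := (heW W le_rfl).2 (res M (inf_le_left : W ≤ O) s)
    have hc' : c • res M (inf_le_right : W ≤ V) e = res M inf_le_left s :=
      (congrArg (c • ·) (res_self M (le_refl W) _).symm).trans hc
    have h1 : ProjMor.eta π M W (res M inf_le_left s) = 0 := by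
      rw [← ProjMor.eta_res, ← hfst, hs, map_zero, map_zero]
    have h2 : ProjMor.eta i M W (res M inf_le_left s) = 0 := by
      rw [← ProjMor.eta_res, ← hsnd, hs, map_zero, map_zero]
    rw [← hc', ProjMor.eta_smul] at h1 h2
    have g1 : π.app W c = 0 := (C1Cap.isGen_eta π heW (π ⁻¹ᵁ W) le_rfl).1 (by
      exact ((congrArg (π.app W c • ·) (res_self _ le_rfl _)).trans h1).trans (zero_smul _ _).symm)
    have g2 : i.app W c = 0 := (C1Cap.isGen_eta i heW (i ⁻¹ᵁ W) le_rfl).1 (by
      exact ((congrArg (i.app W c • ·) (res_self _ le_rfl _)).trans h2).trans (zero_smul _ _).symm)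
    rw [map_zero, ← hc', hmono W c g1 g2, zero_smul]
  · intro O a ha t
    refine QC.section_eq_of_locally (M := cokernel v) (U := O.1) (s := (a • t :)) (t := 0) fun x hx => ?_
    obtain ⟨V, e, hxV, he⟩ := TMul.exists_isGen hM x
    obtain ⟨V', hxV', hV'⟩ := ClSubLib.exists_affine_le (W := O.1 ⊓ V) (y := x) ⟨hx, hxV⟩
    have hVO : V'.1 ≤ O.1 := hV'.trans inf_le_left
    refine ⟨V'.1, hVO, hxV', ?_⟩
    rw [res_smul, map_zero]
    have hmem : resO Y hVO a ∈ (bdry U).ideal V' ^ (m + 1) * (bdry U).ideal V' ^ (m + 1) := by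
      have h1 := ((bdry U ^ (m + 1 + (m + 1))).map_ideal (U := V') (V := O) hVO).le (Ideal.mem_map_of_mem _ ha)
      rwa [Scheme.IdealSheafData.ideal_pow, Pi.pow_apply, pow_add] at h1
    obtain ⟨f, hf⟩ := QC.app_surjective_of_epi V'.2 (CohQC.isQCoh_biprod hA hB)
      (QC.isQCoh_cokernel hMq (CohQC.isQCoh_biprod hA hB) v) (cokernel.π v) (res (cokernel v) hVO t)
    rw [← hf, ← Scheme.Modules.Hom.app_smul]
    have he' := he.res (hV'.trans inf_le_right)
    refine Submodule.mul_induction_on (C := fun b => (cokernel.π v).app V'.1 (b • f) = 0) hmem ?_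
      (fun b b' hb hb' => by rw [add_smul, map_add, hb, hb', add_zero])
    intro y hy z hz
    let e' := res M (hV'.trans inf_le_right) e
    obtain ⟨b₁, hb₁⟩ := (C1Cap.isGen_eta π he' (π ⁻¹ᵁ V'.1) le_rfl).2 ((biprod.fst : A ⊞ B ⟶ A).app V'.1 f)
    simp only [res_self] at hb₁
    obtain ⟨r, hr⟩ := hcok V' z (by rwa [Scheme.IdealSheafData.ideal_pow, Pi.pow_apply]) b₁
    have hy' : i.app V'.1 y = 0 := by
      have h3 : y ∈ i.ker.ideal V' := by
        rwa [show i.ker = _ from Scheme.IdealSheafData.ker_subschemeι _, Scheme.IdealSheafData.ideal_pow,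
          Pi.pow_apply]
      rwa [Scheme.Hom.ker_apply, RingHom.mem_ker] at h3
    have hext : (y * z) • f = v.app V'.1 ((y * r) • e') := by
      have hdec : ∀ w : Γ(A ⊞ B, V'.1), w = (biprod.inl : A ⟶ A ⊞ B).app V'.1 ((biprod.fst : A ⊞ B ⟶ A).app V'.1 w) +
          (biprod.inr : B ⟶ A ⊞ B).app V'.1 ((biprod.snd : A ⊞ B ⟶ B).app V'.1 w) := fun w =>
        congr(($(biprod.total (X := A) (Y := B))).app V'.1 w).symm
      rw [hdec ((y * z) • f), hdec (v.app V'.1 ((y * r) • e'))]
      congr 2
      · rw [hfst, Scheme.Modules.Hom.app_smul, ProjMor.eta_smul, ← hb₁]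
        change π.app V'.1 (y * z) • (b₁ • ProjMor.eta π M V'.1 e') = _
        rw [smul_smul, map_mul, map_mul, mul_assoc, ← hr]
      · rw [hsnd, Scheme.Modules.Hom.app_smul, ProjMor.eta_smul]
        change i.app V'.1 (y * z) • (show Γ((Scheme.Modules.pullback i).obj M, i ⁻¹ᵁ V'.1) from
          (biprod.snd : A ⊞ B ⟶ B).app V'.1 f) = _
        rw [map_mul, map_mul, hy', zero_mul, zero_mul, zero_smul, zero_smul]
    rw [hext]
    exact congr(($(cokernel.condition v)).app V'.1 ((y * r) • e'))

end Groth.Agent.PicProp
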