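import Groth.Agent.PicProp.Glue
import Groth.Agent.PicProp.Killed
import Groth.Agent.PicProp.Bdd
import Groth.Agent.PicBdd.NumBdd
import Groth.Agent.Nakai.FlatEuler

/-!
On a proper scheme over an algebraically closed field the numerically trivial invertible modules form
a bounded family (Noetherian induction with Chow's lemma).
-/

set_option autoImplicit false
set_option backward.isDefEq.respectTransparency false
set_option backward.isDefEq.respectTransparency.types false
set_option linter.style.haveILetI false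
set_option linter.unusedSectionVars false
set_option maxHeartbeats 1000000

universe u

open CategoryTheory CategoryTheory.Limits AlgebraicGeometry TopologicalSpace Opposite

noncomputable section

namespace Groth.Agent.PicProp

attribute [local instance] Abelian.hasFiniteBiproducts

section Formal

variable {C Z : Scheme.{u}} (i : C ⟶ Z) [IsClosedImmersion i]

/-- A submodule with quotient living on a closed subscheme is a glueing kernel. -/
theorem nonempty_iso_kernel_glueMap {M F : Z.Modules} (v : M ⟶ F) [Mono v]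
    (hk : ClSub.KilledByIdeal i.ker (cokernel v)) :
    Nonempty (kernel (glueMap i ((Scheme.Modules.pullback i).map v)) ≅ M) := by
  let P := Scheme.Modules.pullback i
  let Q := Scheme.Modules.pushforward i
  let η := (Scheme.Modules.pullbackPushforwardAdjunction i).unit
  haveI : IsIso (η.app (cokernel v)) := ClSubLib.isIso_unit i (cokernel v) hk
  let c : cokernel (P.map v) ≅ P.obj (cokernel v) := (PreservesCokernel.iso P v).symm
  have hc : cokernel.π (P.map v) ≫ c.hom = P.map (cokernel.π v) := by simp [c]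
  have h : glueMap i (P.map v) ≫ Q.map c.hom = cokernel.π v ≫ η.app (cokernel v) := by
    refine (Category.assoc _ _ _).trans ?_
    rw [← Functor.map_comp, hc]
    exact (η.naturality (cokernel.π v)).symm
  exact ⟨(kernelCompMono (glueMap i (P.map v)) (Q.map c.hom)).symm ≪≫ kernelIsoOfEq h ≪≫
    kernelCompMono (cokernel.π v) (η.app (cokernel v)) ≪≫
    (limit.isLimit _).conePointUniqueUpToIso (Abelian.monoIsKernelOfCokernel _ (cokernelIsCokernel v))⟩

end Formal

variable (k : Type u) [Field k]

/-- Invertible with vanishing degree. -/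
def Flat1 (X : Scheme.{u}) [X.Over (Spec (CommRingCat.of k))] (L : X.Modules) : Prop :=
  PicF.IsInvertible L ∧ Nakai.DegFlat k L

/-- Invertible numerically trivial modules pull back to such. -/
theorem flat1_pullback {X Y : Scheme.{u}} [X.Over (Spec (CommRingCat.of k))] [Y.Over (Spec (CommRingCat.of k))]
    [IsProper (X ↘ Spec (CommRingCat.of k))] [IsProper (Y ↘ Spec (CommRingCat.of k))] (g : Y ⟶ X) [IsProper g]
    (hg : g ≫ (X ↘ Spec (CommRingCat.of k)) = Y ↘ Spec (CommRingCat.of k)) {L : X.Modules} (hL : Flat1 k X L) :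
    Flat1 k Y ((Scheme.Modules.pullback g).obj L) :=
  ⟨PicLoc.isInvertible_pullback g hL.1, fun _ hG hd => Nakai.D_one_pullback k g hg hL.1 hL.2 hG hd⟩

/-- The inductive step. -/
theorem isBounded_step [IsAlgClosed k] (W : Scheme.{u}) [W.Over (Spec (CommRingCat.of k))]
    [IsProper (W ↘ Spec (CommRingCat.of k))] [Nonempty W]
    (ih : ∀ (C : Scheme.{u}) (i : C ⟶ W), IsClosedImmersion i → Set.range i ≠ Set.univ →
      letI : C.Over (Spec (CommRingCat.of k)) := ⟨i ≫ (W ↘ Spec (CommRingCat.of k))⟩
      Pic13.IsBounded k C (Flat1 k C)) : Pic13.IsBounded k W (Flat1 k W) := by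
  let f := W ↘ Spec (CommRingCat.of k)
  haveI := CurveRR.isNoetherian_of_proper k W
  obtain ⟨N, Z', π, j, hj, hjf, hπ, -, U, hU, hiso, -⟩ :=
    Chow.exists_chow f NoetherianSpace.finite_irreducibleComponents
  haveI := hπ
  haveI := hiso
  letI : Z'.Over (Spec (CommRingCat.of k)) := ⟨π ≫ f⟩
  haveI : IsProper (Z' ↘ Spec (CommRingCat.of k)) := inferInstanceAs (IsProper (π ≫ f))
  haveI := CurveRR.isNoetherian_of_proper k Z'
  let H := (Scheme.Modules.pullback j).obj (Twist.twistOver N (Spec (CommRingCat.of k)) 1)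
  have hH : CohB1.IsAmple H := ProjMor.isAmple_of_isRelVeryAmplePn (π ≫ f) ⟨N, j, hj, hjf, ⟨Iso.refl _⟩⟩
  have hb' : Pic13.IsBounded k Z' (Flat1 k Z') := by
    obtain ⟨n, d, r, -, hr, hcl, -⟩ :=
      AmpleEmb.exists_closedImmersion_projSpace (Z' ↘ Spec (CommRingCat.of k)) hH
    haveI := hcl
    exact PicBdd.isBounded_mono k (PicBdd.isBounded_num k r hr)
      fun L hL => ⟨hL.1, Nakai.isNumEquivZero_of_degFlat k hL.1 hL.2⟩
  obtain ⟨m, hm⟩ := exists_glue_data π U
  let i := (bdry U ^ (m + 1)).subschemeι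
  let i₂ := (bdry U ^ (m + 1 + (m + 1))).subschemeι
  have hne : ∀ e : ℕ, e ≠ 0 → Set.range (bdry U ^ e).subschemeι ≠ Set.univ := fun e he h => by
    rw [Scheme.IdealSheafData.range_subschemeι, Scheme.IdealSheafData.support_pow _ _ he,
      Scheme.IdealSheafData.coe_support_vanishingIdeal] at h
    obtain ⟨x, hx⟩ := hU.nonempty
    exact (h.symm.subset (Set.mem_univ x) : x ∈ (U : Set W)ᶜ) hx
  letI : (bdry U ^ (m + 1)).subscheme.Over (Spec (CommRingCat.of k)) := ⟨i ≫ f⟩
  letI : (bdry U ^ (m + 1 + (m + 1))).subscheme.Over (Spec (CommRingCat.of k)) := ⟨i₂ ≫ f⟩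
  haveI : IsProper ((bdry U ^ (m + 1)).subscheme ↘ Spec (CommRingCat.of k)) := inferInstanceAs (IsProper (i ≫ f))
  haveI : IsProper ((bdry U ^ (m + 1 + (m + 1))).subscheme ↘ Spec (CommRingCat.of k)) :=
    inferInstanceAs (IsProper (i₂ ≫ f))
  have hb₁ : Pic13.IsBounded k _ (Flat1 k (bdry U ^ (m + 1)).subscheme) :=
    ih _ i inferInstance (hne _ (by omega))
  have hb₂ : Pic13.IsBounded k _ (Flat1 k (bdry U ^ (m + 1 + (m + 1))).subscheme) :=
    ih _ i₂ inferInstance (hne _ (by omega))
  refine PicBdd.isBounded_mono k (isBounded_glue k i₂ rfl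
    (isBounded_biprod k (isBounded_push k π rfl hb') (isBounded_push k i rfl hb₁))
    (fun L hL => hL.1) hb₂) fun M hM => ?_
  obtain ⟨hmono, hk⟩ := hm M hM.1
  haveI : Mono (biprod.lift ((Scheme.Modules.pullbackPushforwardAdjunction π).unit.app M)
      ((Scheme.Modules.pullbackPushforwardAdjunction i).unit.app M)) := hmono
  refine ⟨_, (Scheme.Modules.pullback i₂).obj M, (Scheme.Modules.pullback i₂).map
    (biprod.lift ((Scheme.Modules.pullbackPushforwardAdjunction π).unit.app M)
      ((Scheme.Modules.pullbackPushforwardAdjunction i).unit.app M)),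
    ⟨_, _, ⟨_, flat1_pullback k π rfl hM, ⟨Iso.refl _⟩⟩, ⟨_, flat1_pullback k i rfl hM, ⟨Iso.refl _⟩⟩,
      ⟨Iso.refl _⟩⟩,
    flat1_pullback k i₂ rfl hM, ?_⟩
  refine nonempty_iso_kernel_glueMap i₂ _ ?_
  rw [show i₂.ker = _ from Scheme.IdealSheafData.ker_subschemeι _]
  exact hk

/-- On a proper scheme over an algebraically closed field the invertible modules of degree zero on
curves form a bounded family. -/
theorem isBounded_flat1 [IsAlgClosed k] (X : Scheme.{u}) [X.Over (Spec (CommRingCat.of k))]
    [IsProper (X ↘ Spec (CommRingCat.of k))] : Pic13.IsBounded k X (Flat1 k X) := by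
  let f := X ↘ Spec (CommRingCat.of k)
  haveI := CurveRR.isNoetherian_of_proper k X
  suffices key : ∀ Y : Closeds X, ∀ (W : Scheme.{u}) (i : W ⟶ X) (_ : IsClosedImmersion i), Set.range i = Y →
      ∀ g : W ⟶ Spec (CommRingCat.of k), i ≫ f = g →
        letI : W.Over (Spec (CommRingCat.of k)) := ⟨g⟩
        Pic13.IsBounded k W (Flat1 k W) by
    exact key ⊤ X (𝟙 X) inferInstance (by simp) f (Category.id_comp f)
  intro Y
  induction Y using WellFoundedLT.induction with
  | ind Y IH =>
    intro W i hi hY g hg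
    letI : W.Over (Spec (CommRingCat.of k)) := ⟨g⟩
    haveI := hi
    haveI : IsProper (W ↘ Spec (CommRingCat.of k)) := by
      change IsProper g; rw [← hg]; infer_instance
    rcases isEmpty_or_nonempty W with hW | hW
    · exact isBounded_of_isEmpty k _
    refine isBounded_step k W fun W' j hj hne => ?_
    haveI := hj
    have hc : IsClosed (Set.range (j ≫ i)) := (j ≫ i).isClosedEmbedding.isClosed_range
    refine IH ⟨_, hc⟩ ?_ W' (j ≫ i) inferInstance rfl _ (by rw [Category.assoc, hg]; rfl)
    refine SetLike.coe_ssubset_coe.1 (ssubset_of_subset_of_ne ?_ ?_)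
    · rw [← hY]; rintro _ ⟨z, rfl⟩; exact ⟨j.base z, rfl⟩
    · intro heq
      refine hne (Set.eq_univ_of_forall fun w => ?_)
      obtain ⟨z, hz⟩ := (heq.trans hY.symm).symm.subset ⟨w, rfl⟩
      exact ⟨z, i.isClosedEmbedding.injective hz⟩

/-- Numerically trivial invertible modules form a bounded family. -/
theorem isBounded_numTriv [IsAlgClosed k] (X : Scheme.{u}) [X.Over (Spec (CommRingCat.of k))]
    [IsProper (X ↘ Spec (CommRingCat.of k))] :
    Pic13.IsBounded k X (fun L : X.Modules => PicF.IsInvertible L ∧ Pic13.IsNumEquivZero k X L) :=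
  PicBdd.isBounded_mono k (isBounded_flat1 k X) fun _ hL => ⟨hL.1, PicBdd.degFlat_of_num k hL.1 hL.2⟩

/-- Numerical triviality implies `τ`-triviality on proper schemes. -/
theorem isTau_of_flat1 [IsAlgClosed k] {X : Scheme.{u}} [X.Over (Spec (CommRingCat.of k))]
    [IsProper (X ↘ Spec (CommRingCat.of k))] {L : X.Modules} (hL : Flat1 k X L) : Pic13.IsTauEquivZero k X L :=
  PicBdd.isTau_of_bounded k hL.1 _
    (fun m => ⟨TMul.isInvertible_tensorPow hL.1 m, hL.2.pow k hL.1 m⟩) (isBounded_flat1 k X)

/-- `τ`-trivial modules have vanishing degree. -/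
theorem flat1_of_tau {X : Scheme.{u}} [X.Over (Spec (CommRingCat.of k))]
    [IsProper (X ↘ Spec (CommRingCat.of k))] {L : X.Modules} (hL : PicF.IsInvertible L)
    (hτ : Pic13.IsTauEquivZero k X L) : Flat1 k X L :=
  ⟨hL, Nakai.degFlat_of_tau k hL hτ⟩

end Groth.Agent.PicProp
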