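import Groth.Agent.PicProp.Generic
import Groth.Agent.Intersect.Push

/-!
Direct images of a bounded family under a proper morphism form a bounded family.
-/

set_option autoImplicit false
set_option backward.isDefEq.respectTransparency false
set_option backward.isDefEq.respectTransparency.types false
set_option linter.style.haveILetI false
set_option linter.unusedSectionVars false
set_option maxHeartbeats 1000000

universe u

open CategoryTheory CategoryTheory.Limits AlgebraicGeometry TopologicalSpace Opposite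
open Groth.Agent.W7Cech
open Groth.Agent.QC (res resO res_res res_self res_smul)

noncomputable section

namespace Groth.Agent.PicProp

variable (k : Type u) [Field k] {Z' Z : Scheme.{u}} [Z'.Over (Spec (CommRingCat.of k))]
  [Z.Over (Spec (CommRingCat.of k))] (π : Z' ⟶ Z)
  (hπ : π ≫ (Z ↘ Spec (CommRingCat.of k)) = Z' ↘ Spec (CommRingCat.of k))

/-- The product of a morphism with the parameter scheme. -/
def prodX {T : Scheme.{u}} (q : T ⟶ Spec (CommRingCat.of k)) : Pic13.prodK k Z' q ⟶ Pic13.prodK k Z q :=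
  pullback.map _ _ _ _ π (𝟙 T) (𝟙 _) (by rw [Category.comp_id, hπ]) (by simp)

@[reassoc]
theorem prodX_fst {T : Scheme.{u}} (q : T ⟶ Spec (CommRingCat.of k)) :
    prodX k π hπ q ≫ pullback.fst _ q = pullback.fst _ q ≫ π := pullback.lift_fst _ _ _

@[reassoc]
theorem prodX_snd {T : Scheme.{u}} (q : T ⟶ Spec (CommRingCat.of k)) :
    prodX k π hπ q ≫ pullback.snd _ q = pullback.snd _ q :=
  (pullback.lift_snd _ _ _).trans (Category.comp_id _)

theorem isPullback_prodX {T : Scheme.{u}} (q : T ⟶ Spec (CommRingCat.of k)) :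
    IsPullback (pullback.fst (Z' ↘ Spec (CommRingCat.of k)) q) (prodX k π hπ q) π (pullback.fst _ q) :=
  IsPullback.of_bot (by rw [hπ, prodX_snd]; exact IsPullback.of_hasPullback _ _) (prodX_fst k π hπ q).symm
    (IsPullback.of_hasPullback _ _)

theorem isProper_prodX [IsProper π] {T : Scheme.{u}} (q : T ⟶ Spec (CommRingCat.of k)) :
    IsProper (prodX k π hπ q) :=
  MorphismProperty.of_isPullback (P := @IsProper) (isPullback_prodX k π hπ q) ‹_›

theorem slice_prodX {T : Scheme.{u}} (q : T ⟶ Spec (CommRingCat.of k)) (s : Spec (CommRingCat.of k) ⟶ T)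
    (hs : s ≫ q = 𝟙 _) :
    Pic13.sliceAt k Z' q s hs ≫ prodX k π hπ q = π ≫ Pic13.sliceAt k Z q s hs := by
  refine pullback.hom_ext ?_ ?_
  · rw [Category.assoc, prodX_fst, Category.assoc]
    simp only [Pic13.sliceAt, pullback.lift_fst, pullback.lift_fst_assoc, Category.id_comp, Category.comp_id]
  · rw [Category.assoc, prodX_snd, Category.assoc]
    simp only [Pic13.sliceAt, pullback.lift_snd]
    rw [← Category.assoc, hπ]

theorem isPullback_slice (X : Scheme.{u}) [X.Over (Spec (CommRingCat.of k))] {T : Scheme.{u}}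
    (q : T ⟶ Spec (CommRingCat.of k)) (s : Spec (CommRingCat.of k) ⟶ T) (hs : s ≫ q = 𝟙 _) :
    IsPullback (Pic13.sliceAt k X q s hs) (X ↘ Spec (CommRingCat.of k))
      (pullback.snd (X ↘ Spec (CommRingCat.of k)) q) s := by
  refine IsPullback.of_right ?_ (pullback.lift_snd _ _ _) (IsPullback.of_hasPullback _ _)
  rw [show Pic13.sliceAt k X q s hs ≫ pullback.fst _ _ = 𝟙 X from pullback.lift_fst _ _ _, hs]
  exact IsPullback.of_horiz_isIso ⟨by simp⟩

/-- Functions on an affine open restrict surjectively along a slice. -/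
theorem surjective_appLE_slice (X : Scheme.{u}) [X.Over (Spec (CommRingCat.of k))] {T : Scheme.{u}}
    (q : T ⟶ Spec (CommRingCat.of k)) (s : Spec (CommRingCat.of k) ⟶ T) (hs : s ≫ q = 𝟙 _) (U : X.Opens)
    (h : U ≤ Pic13.sliceAt k X q s hs ⁻¹ᵁ (pullback.fst (X ↘ Spec (CommRingCat.of k)) q ⁻¹ᵁ U)) :
    Function.Surjective ((Pic13.sliceAt k X q s hs).appLE _ U h).hom := by
  intro b
  refine ⟨((pullback.fst (X ↘ Spec (CommRingCat.of k)) q).appLE U _ le_rfl).hom b, ?_⟩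
  have e : (pullback.fst (X ↘ Spec (CommRingCat.of k)) q).appLE U _ le_rfl ≫
      (Pic13.sliceAt k X q s hs).appLE _ U h = 𝟙 _ := by
    rw [Scheme.Hom.appLE_comp_appLE, Scheme.Hom.appLE]
    erw [Scheme.Hom.congr_app (show Pic13.sliceAt k X q s hs ≫ pullback.fst _ _ = 𝟙 X from pullback.lift_fst _ _ _) U]
    simp only [Scheme.Hom.id_app, Category.id_comp]
    erw [← X.presheaf.map_comp]
    exact X.presheaf.map_id _
  exact ConcreteCategory.congr_hom e b

/-- A base change along a surjection of rings is surjective. -/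
theorem surjective_of_isBaseChange {A B M N : Type u} [CommRing A] [CommRing B] [Algebra A B]
    [AddCommGroup M] [Module A M] [AddCommGroup N] [Module A N] [Module B N] [IsScalarTower A B N]
    {ζ : M →ₗ[A] N} (hζ : IsBaseChange B ζ) (hs : Function.Surjective (algebraMap A B)) :
    Function.Surjective ζ := by
  intro y
  refine hζ.inductionOn y (fun y => ∃ x, ζ x = y) ?_ (fun x => ⟨x, rfl⟩) ?_ ?_
  all_goals intros
  · exact ⟨0, map_zero ζ⟩
  · rename_i b n hn
    obtain ⟨x, rfl⟩ := hn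
    obtain ⟨a, rfl⟩ := hs b
    exact ⟨a • x, by rw [map_smul, IsScalarTower.algebraMap_smul]⟩
  · rename_i n₁ n₂ h₁ h₂
    obtain ⟨x₁, rfl⟩ := h₁
    obtain ⟨x₂, rfl⟩ := h₂
    exact ⟨x₁ + x₂, map_add ζ x₁ x₂⟩

variable [IsProper (Z' ↘ Spec (CommRingCat.of k))] [IsProper (Z ↘ Spec (CommRingCat.of k))] [IsProper π]

/-- Base change of a direct image to a rational point of an affine base, from flat cohomology over a
covering by products with affine opens. -/
theorem isIso_bc0_slice {A : Type u} [CommRing A] (q : Spec (CommRingCat.of A) ⟶ Spec (CommRingCat.of k))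
    (F : (Pic13.prodK k Z' q).Modules) (hq : Coh.IsQCoh F)
    (hfl : FlatMod.IsFlatOver (pullback.snd (Z' ↘ Spec (CommRingCat.of k)) q) F)
    (hU : ∀ x : Z, ∃ (U : Z.Opens) (_ : IsAffineOpen U), x ∈ U ∧
      ∀ h : prodX k π hπ q ⁻¹ᵁ (pullback.fst _ q ⁻¹ᵁ U) ≤ pullback.snd (Z' ↘ Spec (CommRingCat.of k)) q ⁻¹ᵁ ⊤,
        letI : (prodX k π hπ q ⁻¹ᵁ (pullback.fst _ q ⁻¹ᵁ U)).toScheme.Over
            (Spec (CommRingCat.of Γ(Spec (CommRingCat.of A), ⊤))) :=
          ⟨(pullback.snd (Z' ↘ Spec (CommRingCat.of k)) q).resLE ⊤ _ h ≫ (isAffineOpen_top _).isoSpec.hom⟩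
        ∀ n : ℕ, Module.Flat Γ(Spec (CommRingCat.of A), ⊤)
          (Coh.HH (prodX k π hπ q ⁻¹ᵁ (pullback.fst _ q ⁻¹ᵁ U)).toScheme
            (F.restrict (prodX k π hπ q ⁻¹ᵁ (pullback.fst _ q ⁻¹ᵁ U)).ι) n))
    (s : Spec (CommRingCat.of k) ⟶ Spec (CommRingCat.of A)) (hs : s ≫ q = 𝟙 _) :
    IsIso (CohBC.bc0 (prodX k π hπ q) (Pic13.sliceAt k Z q s hs) π (Pic13.sliceAt k Z' q s hs)
      (slice_prodX k π hπ q s hs) F) := by
  let pr := prodX k π hπ q
  let σ := Pic13.sliceAt k Z q s hs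
  let σ' := Pic13.sliceAt k Z' q s hs
  let f := pullback.snd (Z' ↘ Spec (CommRingCat.of k)) q
  haveI : IsProper pr := isProper_prodX k π hπ q
  haveI : F.IsQuasicoherent := hq
  haveI : ((Scheme.Modules.pullback σ').obj F).IsQuasicoherent := QC.isQCoh_pullback σ' hq
  refine RelTilde.isIso_adjunct σ (CohBC.bc0Adj pr σ π σ' (slice_prodX k π hπ q s hs) F)
    (QC.isQCoh_pushforward pr) (QC.isQCoh_pushforward π) fun x => ?_
  obtain ⟨U, hUa, hxU, hH⟩ := hU x
  let U₁ := pullback.fst (Z ↘ Spec (CommRingCat.of k)) q ⁻¹ᵁ U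
  have hU₁ : IsAffineOpen U₁ := by
    haveI : IsAffineHom q := inferInstance
    haveI : IsAffineHom (pullback.fst (Z ↘ Spec (CommRingCat.of k)) q) := MorphismProperty.pullback_fst _ _ inferInstance
    exact hUa.preimage _
  have hUσ : U ≤ σ ⁻¹ᵁ U₁ := by
    rw [← Scheme.Hom.comp_preimage, show σ ≫ pullback.fst _ _ = 𝟙 Z from pullback.lift_fst _ _ _]
    exact le_rfl
  let P := pr ⁻¹ᵁ U₁
  have hP : P ≤ f ⁻¹ᵁ ⊤ := le_top
  have hPc : IsCompact (P : Set (Pic13.prodK k Z' q : Scheme.{u})) := pr.isCompact_preimage hU₁.isCompact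
  haveI : IsSeparated (P.ι ≫ f) := inferInstance
  have hP' : π ⁻¹ᵁ U = σ' ⁻¹ᵁ P ⊓ (Z' ↘ Spec (CommRingCat.of k)) ⁻¹ᵁ ⊤ := by
    rw [Scheme.Hom.preimage_top, inf_top_eq, ← Scheme.Hom.comp_preimage, slice_prodX k π hπ q s hs,
      Scheme.Hom.comp_preimage]
    show π ⁻¹ᵁ U = π ⁻¹ᵁ (σ ⁻¹ᵁ U₁)
    rw [← Scheme.Hom.comp_preimage σ, show σ ≫ pullback.fst _ _ = 𝟙 Z from pullback.lift_fst _ _ _]
    rfl
  refine ⟨U₁, hU₁, U, hUa, hUσ, hxU, ?_⟩
  let A₁ : Type u := Γ(Spec (CommRingCat.of A), ⊤)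
  let B₁ : Type u := Γ(Spec (CommRingCat.of k), ⊤)
  have hVU : (⊤ : (Spec (CommRingCat.of k)).Opens) ≤ s ⁻¹ᵁ ⊤ := le_top
  letI : Algebra A₁ B₁ := (s.appLE ⊤ ⊤ hVU).hom.toAlgebra
  let G := (Scheme.Modules.pullback σ').obj F
  have hP'' : π ⁻¹ᵁ U ≤ (Z' ↘ Spec (CommRingCat.of k)) ⁻¹ᵁ ⊤ := le_top
  letI : Module A₁ (SM (Z' ↘ Spec (CommRingCat.of k)) G (π ⁻¹ᵁ U) hP'' : Type u) :=
    Module.compHom _ (s.appLE ⊤ ⊤ hVU).hom
  haveI : IsScalarTower A₁ B₁ (SM (Z' ↘ Spec (CommRingCat.of k)) G (π ⁻¹ᵁ U) hP'' : Type u) :=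
    IsScalarTower.of_algebraMap_smul fun _ _ => rfl
  have hζ := isBaseChange_sections f hq (isAffineOpen_top _) hP hPc (fun y _ => hfl y) (hH hP)
    (isPullback_slice k Z' q s hs) (isAffineOpen_top _) hVU hP'
  let ζ : (SM f F P hP : Type u) →ₗ[A₁] (SM (Z' ↘ Spec (CommRingCat.of k)) G (π ⁻¹ᵁ U) hP'' : Type u) :=
    pullPiece F hVU (isPullback_slice k Z' q s hs).w hP (hP'.le.trans inf_le_left) (hP'.le.trans inf_le_right)
  have hζs : Function.Surjective ζ :=
    surjective_of_isBaseChange hζ (surjective_appLE_point q s hs)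
  have key : ∀ m : Γ((Scheme.Modules.pushforward pr).obj F, U₁),
      RelTilde.resθ σ (CohBC.bc0Adj pr σ π σ' (slice_prodX k π hπ q s hs) F) hUσ m =
        (show Γ((Scheme.Modules.pushforward π).obj G, U) from ζ (show (SM f F P hP : Type u) from m)) :=
    fun m => res_res G _ _ _
  intro Q _ _ w
  let c := ((Z ↘ Spec (CommRingCat.of k)).appLE ⊤ U le_top).hom
  letI : Module B₁ Q := Module.compHom Q c
  letI : Module A₁ Q := Module.compHom Q (s.appLE ⊤ ⊤ hVU).hom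
  haveI : IsScalarTower A₁ B₁ Q := IsScalarTower.of_algebraMap_smul fun _ _ => rfl
  let w' : (SM f F P hP : Type u) →ₗ[A₁] Q :=
    { toFun := fun m => w (show Γ((Scheme.Modules.pushforward pr).obj F, U₁) from m)
      map_add' := fun m m' => map_add w _ _
      map_smul' := fun a m => by
        let g := pullback.snd (Z ↘ Spec (CommRingCat.of k)) q
        let r : Γ(Pic13.prodK k Z q, U₁) := (g.appLE ⊤ U₁ le_top).hom a
        have h1 : (f.appLE ⊤ P hP).hom a • (show Γ(F, P) from m) =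
            (show Γ(F, P) from r • (show Γ((Scheme.Modules.pushforward pr).obj F, U₁) from m)) := by
          change _ = (pr.app U₁).hom r • (show Γ(F, P) from m)
          refine congrArg (· • (show Γ(F, P) from m)) ?_
          change _ = (g.appLE ⊤ U₁ le_top ≫ pr.app U₁).hom a
          rw [pr.app_eq_appLE, Scheme.Hom.appLE_comp_appLE]
          simp only [g, pr, prodX_snd]
          rfl
        refine (congrArg w h1).trans ((map_smulₛₗ w r _).trans ?_)
        refine congrArg (· • w (show Γ((Scheme.Modules.pushforward pr).obj F, U₁) from m)) ?_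
        change (g.appLE ⊤ U₁ le_top ≫ σ.appLE U₁ U hUσ).hom a =
          (s.appLE ⊤ ⊤ hVU ≫ (Z ↘ Spec (CommRingCat.of k)).appLE ⊤ U le_top).hom a
        rw [Scheme.Hom.appLE_comp_appLE, Scheme.Hom.appLE_comp_appLE]
        simp only [g, σ, Pic13.sliceAt, pullback.lift_snd] }
  let l := hζ.lift w'
  have hl : ∀ m, l (ζ m) = w' m := hζ.lift_eq w'
  have hsm : ∀ (r : Γ(Pic13.prodK k Z q, U₁)) (m : Γ((Scheme.Modules.pushforward pr).obj F, U₁)),
      (σ.appLE U₁ U hUσ).hom r •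
          (show Γ((Scheme.Modules.pushforward π).obj G, U) from ζ (show (SM f F P hP : Type u) from m)) =
        (show Γ((Scheme.Modules.pushforward π).obj G, U) from ζ (show (SM f F P hP : Type u) from r • m)) :=
    fun r m => by
      rw [← key, ← key]
      exact (map_smulₛₗ _ r m).symm
  refine ⟨{ toFun := fun y => l (show (SM (Z' ↘ Spec (CommRingCat.of k)) G (π ⁻¹ᵁ U) hP'' : Type u) from y)
            map_add' := fun y y' => map_add l _ _
            map_smul' := fun b y => ?_ }, fun m => ?_, fun φ hφ => LinearMap.ext fun y => ?_⟩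
  · obtain ⟨r, rfl⟩ := surjective_appLE_slice k Z q s hs U hUσ b
    obtain ⟨m, rfl⟩ := hζs y
    refine (congrArg l (hsm r m)).trans ?_
    rw [hl]
    refine (map_smulₛₗ w r _).trans ?_
    rw [RingHom.id_apply]
    exact congrArg (_ • ·) (hl m).symm
  · change l _ = _
    rw [key]
    exact hl _
  · obtain ⟨m, rfl⟩ := hζs (show (SM (Z' ↘ Spec (CommRingCat.of k)) G (π ⁻¹ᵁ U) hP'' : Type u) from y)
    refine Eq.trans ?_ (hl m).symm
    exact (congrArg φ (key m).symm).trans (hφ m)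

include hπ in
/-- Direct images of a bounded family under a proper morphism form a bounded family. -/
theorem isBounded_push {P : Z'.Modules → Prop} (hb : Pic13.IsBounded k Z' P) :
    Pic13.IsBounded k Z (fun N => ∃ L, P L ∧ Nonempty ((Scheme.Modules.pushforward π).obj L ≅ N)) := by
  classical
  obtain ⟨T, q, hlft, hqc, F, hF, hfam⟩ := hb
  haveI := hlft
  haveI := hqc
  refine PicBdd.isBounded_mono k (isBounded_of_generic k q (fun t N => ∀ ht : t ≫ q = 𝟙 _,
    Nonempty ((Scheme.Modules.pushforward π).obj (Pic13.fibreMod k Z' q t ht F) ≅ N)) ?_) fun N ⟨L, hL, ⟨e⟩⟩ => ?_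
  swap
  · obtain ⟨t, ht, ⟨e'⟩⟩ := hfam L hL
    exact ⟨t, ht, fun _ => ⟨(Scheme.Modules.pushforward π).mapIso e' ≪≫ e⟩⟩
  intro A _ _ j hjq
  let qA := j ≫ q
  haveI : LocallyOfFiniteType qA := hjq
  haveI : IsNoetherianRing A := by
    haveI : IsLocallyNoetherian (Spec (CommRingCat.of A)) := LocallyOfFiniteType.isLocallyNoetherian qA
    exact isLocallyNoetherian_Spec.mp ‹_›
  let pA := pullback.snd (Z' ↘ Spec (CommRingCat.of k)) qA
  let J := PicBdd.prodMap k (X := Z') j (q' := qA) rfl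
  let FA := (Scheme.Modules.pullback J).obj F
  have hFA : Coh.IsCoh FA := QC.isCoh_pullback J hF
  let πA := prodX k π hπ qA
  haveI : IsProper πA := isProper_prodX k π hπ qA
  haveI : CompactSpace Z := QuasiCompact.compactSpace_of_compactSpace (Z ↘ Spec (CommRingCat.of k))
  let 𝒰 := Z.affineCover.finiteSubcover
  have hstep : ∀ i : 𝒰.I₀, ∃ c : A, c ≠ 0 ∧ ∀ (a : A), c ∣ a →
      ∀ {X' : Scheme.{u}} (g' : X' ⟶ Pic13.prodK k Z' qA) (f' : X' ⟶ Spec (CommRingCat.of (Localization.Away a))),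
      IsPullback g' f' pA (awayι a) →
      FlatMod.IsFlatOver f' ((Scheme.Modules.pullback g').obj FA) ∧
      IsCompact ((g' ⁻¹ᵁ (πA ⁻¹ᵁ (pullback.fst _ qA ⁻¹ᵁ (𝒰.f i).opensRange)) : X'.Opens) : Set X') ∧
      IsSeparated ((g' ⁻¹ᵁ (πA ⁻¹ᵁ (pullback.fst _ qA ⁻¹ᵁ (𝒰.f i).opensRange))).ι ≫ f') ∧
      ∀ h : g' ⁻¹ᵁ (πA ⁻¹ᵁ (pullback.fst _ qA ⁻¹ᵁ (𝒰.f i).opensRange)) ≤ f' ⁻¹ᵁ ⊤,
        letI : (g' ⁻¹ᵁ (πA ⁻¹ᵁ (pullback.fst _ qA ⁻¹ᵁ (𝒰.f i).opensRange))).toScheme.Over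
            (Spec (CommRingCat.of Γ(Spec (CommRingCat.of (Localization.Away a)), ⊤))) :=
          ⟨f'.resLE ⊤ _ h ≫ (isAffineOpen_top _).isoSpec.hom⟩
        ∀ n : ℕ, Module.Flat Γ(Spec (CommRingCat.of (Localization.Away a)), ⊤)
          (Coh.HH (g' ⁻¹ᵁ (πA ⁻¹ᵁ (pullback.fst _ qA ⁻¹ᵁ (𝒰.f i).opensRange))).toScheme
            (((Scheme.Modules.pullback g').obj FA).restrict
              (g' ⁻¹ᵁ (πA ⁻¹ᵁ (pullback.fst _ qA ⁻¹ᵁ (𝒰.f i).opensRange))).ι) n) := by
    intro i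
    let U := (𝒰.f i).opensRange
    let V := pullback.fst (Z ↘ Spec (CommRingCat.of k)) qA ⁻¹ᵁ U
    have hUa : IsAffineOpen U := isAffineOpen_opensRange (𝒰.f i)
    haveI : IsAffineHom (pullback.fst (Z ↘ Spec (CommRingCat.of k)) qA) := MorphismProperty.pullback_fst _ _ inferInstance
    have hV : IsAffineOpen V := hUa.preimage _
    let g := pullback.snd (Z ↘ Spec (CommRingCat.of k)) qA
    let φ : CommRingCat.of A ⟶ Γ(Pic13.prodK k Z qA, V) :=
      (Scheme.ΓSpecIso (CommRingCat.of A)).inv ≫ g.appLE ⊤ V le_top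
    letI : Algebra A Γ(Pic13.prodK k Z qA, V) := φ.hom.toAlgebra
    have h2 : hV.fromSpec ≫ g = Spec.map φ := by
      rw [Spec.map_comp, ← Scheme.isoSpec_Spec_inv, ← IsAffineOpen.fromSpec_top]
      exact ((isAffineOpen_top _).SpecMap_appLE_fromSpec g hV le_top).symm
    haveI : Algebra.FiniteType A Γ(Pic13.prodK k Z qA, V) := by
      rw [← RingHom.finiteType_algebraMap]
      haveI : LocallyOfFiniteType (Spec.map φ) := by rw [← h2]; infer_instance
      exact (HasRingHomProperty.Spec_iff (P := @LocallyOfFiniteType)).mp ‹_›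
    let p := (πA ∣_ V) ≫ hV.isoSpec.hom
    haveI : IsProper (πA ∣_ V) := IsZariskiLocalAtTarget.restrict (P := @IsProper) ‹_› V
    refine exists_flat_hh pA FA hFA (πA ⁻¹ᵁ V) p ?_
    change p ≫ Spec.map φ = _
    rw [← h2]
    simp only [p, Category.assoc]
    rw [← Category.assoc hV.isoSpec.hom, IsAffineOpen.isoSpec_hom_fromSpec, ← Category.assoc,
      morphismRestrict_ι, Category.assoc, prodX_snd]
  choose c hc hgood using hstep
  haveI : Fintype 𝒰.I₀ := Fintype.ofFinite _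
  refine ⟨∏ i, c i, Finset.prod_ne_zero_iff.mpr fun i _ => hc i, ?_⟩
  let a := ∏ i, c i
  let q₁ := awayι a ≫ qA
  haveI : LocallyOfFiniteType (awayι (A := A) a) := inferInstance
  haveI : LocallyOfFiniteType q₁ := inferInstance
  let J₁ := PicBdd.prodMap k (X := Z') (awayι a) (q' := q₁) rfl
  let F₁ := (Scheme.Modules.pullback J₁).obj FA
  have hF₁ : Coh.IsCoh F₁ := QC.isCoh_pullback J₁ hFA
  let π₁ := prodX k π hπ q₁
  haveI : IsProper π₁ := isProper_prodX k π hπ q₁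
  haveI : IsLocallyNoetherian (Pic13.prodK k Z q₁) :=
    LocallyOfFiniteType.isLocallyNoetherian (pullback.snd (Z ↘ Spec (CommRingCat.of k)) q₁ ≫ q₁)
  have hG : Coh.IsCoh ((Scheme.Modules.pushforward π₁).obj F₁) := Intersect.isCoh_push' π₁ hF₁
  refine ⟨Spec (CommRingCat.of (Localization.Away a)), q₁, inferInstance, inferInstance, _, hG, ?_⟩
  rintro N ⟨s, hs, hB⟩
  have hs' : s ≫ q₁ = 𝟙 _ := hs
  refine ⟨s, hs', ?_⟩
  have hsq := PicBdd.isPullback_prodMap k (X := Z') (awayι a) (q := qA) (q' := q₁) rfl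
  have hJW : ∀ U : Z.Opens, J₁ ⁻¹ᵁ (πA ⁻¹ᵁ (pullback.fst _ qA ⁻¹ᵁ U)) = π₁ ⁻¹ᵁ (pullback.fst _ q₁ ⁻¹ᵁ U) := fun U => by
    simp only [← Scheme.Hom.comp_preimage]
    congr 1
    simp [J₁, π₁, πA, prodX_fst, PicBdd.prodMap]
  haveI : IsIso (CohBC.bc0 π₁ (Pic13.sliceAt k Z q₁ s hs') π (Pic13.sliceAt k Z' q₁ s hs')
      (slice_prodX k π hπ q₁ s hs') F₁) := by
    refine isIso_bc0_slice k π hπ q₁ F₁ hF₁.1 (fun y => ?_) (fun x => ?_) s hs'
    · obtain ⟨i, -⟩ := 𝒰.exists_eq ((pullback.fst (Z ↘ Spec (CommRingCat.of k)) q₁).base (π₁.base y))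
      exact (hgood i a (Finset.dvd_prod_of_mem c (Finset.mem_univ i)) J₁ _ hsq).1 y
    · obtain ⟨i, z, hz⟩ := 𝒰.exists_eq x
      obtain ⟨-, -, -, hH⟩ := hgood i a (Finset.dvd_prod_of_mem c (Finset.mem_univ i)) J₁ _ hsq
      refine ⟨(𝒰.f i).opensRange, isAffineOpen_opensRange _, ⟨z, hz⟩, ?_⟩
      rw [← hJW]
      exact hH
  have ht' : (s ≫ awayι a) ≫ qA = 𝟙 _ := by rw [Category.assoc]; exact hs'
  have htq : ((s ≫ awayι a) ≫ j) ≫ q = 𝟙 _ := by rw [Category.assoc]; exact ht'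
  obtain ⟨e1⟩ := PicBdd.nonempty_fibreMod_pullback (X := Z') k (awayι a) (q' := q₁) rfl s hs' ht' FA
  obtain ⟨e2⟩ := PicBdd.nonempty_fibreMod_pullback (X := Z') k j (q' := qA) rfl (s ≫ awayι a) ht' htq F
  have hB' : ∀ t ht, t = (s ≫ awayι a ≫ j) →
      Nonempty ((Scheme.Modules.pushforward π).obj (Pic13.fibreMod k Z' q t ht F) ≅ N) := by
    rintro t ht rfl
    exact hB ht
  obtain ⟨e⟩ := hB' _ htq (Category.assoc _ _ _)
  exact ⟨asIso (CohBC.bc0 π₁ (Pic13.sliceAt k Z q₁ s hs') π (Pic13.sliceAt k Z' q₁ s hs')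
      (slice_prodX k π hπ q₁ s hs') F₁) ≪≫ (Scheme.Modules.pushforward π).mapIso (e1 ≪≫ e2) ≪≫ e⟩

end Groth.Agent.PicProp
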