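import Groth.Agent.W7Cech.BC0
import Groth.Agent.W7Cech.FlatHom

/-!
Sections over the preimage of an affine open commute with base change when the cohomology is flat:
the variant of `W7Cech.exists_bc_setup` for separated quasi-compact morphisms.
-/

set_option autoImplicit false
set_option backward.isDefEq.respectTransparency false
set_option backward.isDefEq.respectTransparency.types false
set_option linter.style.haveILetI false
set_option maxHeartbeats 1000000

universe u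

open CategoryTheory CategoryTheory.Limits AlgebraicGeometry TopologicalSpace Opposite MonoidalCategory
open Groth.Agent.SiteCoh Groth.Agent.W7Cech
open Groth.Agent.QC (res resO res_res res_self res_smul)
open scoped TensorProduct

noncomputable section

namespace Groth.Agent.PicProp

/-- With flat cohomology the cokernels of the Čech complex are flat. -/
theorem flat_opc (A : Type u) [CommRing A] {X : Scheme.{u}} [X.Over (Spec (CommRingCat.of A))] [X.IsSeparated]
    {ι : Type u} [Finite ι] (U : ι → X.Opens)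
    (hU : ∀ (n : ℕ) (a : Fin (n + 1) → ι), IsAffineOpen (tupleProd U a)) (hcov : iSup U = ⊤)
    (F : X.Modules) (hF : Coh.IsQCoh F) (hC : ∀ n, Module.Flat A (((CC A U).obj F).X n))
    (hH : ∀ p : ℕ, Module.Flat A (Coh.HH X F p)) (j : ℕ) :
    Module.Flat A (FlatCx.Opc ((CC A U).obj F) j ((ComplexShape.up ℕ).next j)) := by
  let C := (CC A U).obj F
  have hU1 : ∀ i, IsAffineOpen (U i) := fun i => by
    have := hU 0 fun _ => i
    rwa [tupleProd_eq_iInf, iInf_const] at this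
  choose e _ using exists_TEquiv A U hU hcov F hF
  choose eH _ using exists_hhEquiv A U hU hcov
  have hHm : ∀ n, Module.Flat A (FlatCx.Hm C n) := fun n => by
    haveI := hH n
    haveI : Module.Flat A (C.homology n : Type u) := Module.Flat.of_linearEquiv (eH n F hF)
    exact Module.Flat.of_linearEquiv (FlatCx.homologyHmEquiv C n).symm
  have hc : ∀ j : ℕ, (ComplexShape.up ℕ).prev ((ComplexShape.up ℕ).next j) = j := fun j => by simp
  suffices h : ∀ k j : ℕ, Nat.card ι ≤ j + k → Module.Flat A (FlatCx.Opc C j ((ComplexShape.up ℕ).next j)) from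
    h (Nat.card ι) j (Nat.le_add_left _ _)
  intro k
  induction k with
  | zero =>
    intro j hj
    refine (FlatCx.preservesEpi_iff_flat_opc C j hC (hc j)).1 ⟨fun {M N} f _ => ?_⟩
    haveI := hh_vanish_cover U hU1 hcov _ (isQCoh_tensorAFunctor A F hF N) j (by omega)
    haveI : Subsingleton ((CohIII.TFun C j).obj N) := (e j N).injective.subsingleton
    exact (ModuleCat.epi_iff_surjective _).2 fun y => ⟨0, Subsingleton.elim _ _⟩
  | succ k ih =>
    intro j hj
    haveI := ih (j + 1) (by omega)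
    have h1 := (FlatCx.preservesMono_iff_flat_Hm C (j + 1) hC (ih (j + 1) (by omega))).2 (hHm (j + 1))
    have h2 := (FlatCx.preservesMono_iff_flat_opc hC rfl rfl).1 h1
    rwa [CochainComplex.prev_nat_succ, show j + 1 = (ComplexShape.up ℕ).next j by simp] at h2

variable {X S : Scheme.{u}} (f : X ⟶ S) {F : X.Modules}

/-- The action of the functions on an affine open on sections over its preimage, after restriction. -/
lemma secRing_restrict {U : S.Opens} (hU : IsAffineOpen U) {P : X.Opens} (hP : P ≤ f ⁻¹ᵁ U) (O : P.toScheme.Opens)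
    (h : P.ι ''ᵁ O ≤ f ⁻¹ᵁ U) (a : Γ(S, U)) (s : Γ(F.restrict P.ι, O)) :
    letI : P.toScheme.Over (Spec (CommRingCat.of Γ(S, U))) := ⟨f.resLE U P hP ≫ hU.isoSpec.hom⟩
    (F.restrictAppIso P.ι O).hom (secRing Γ(S, U) O a • s) =
      (f.appLE U (P.ι ''ᵁ O) h).hom a • (F.restrictAppIso P.ι O).hom s := by
  letI : P.toScheme.Over (Spec (CommRingCat.of Γ(S, U))) := ⟨f.resLE U P hP ≫ hU.isoSpec.hom⟩
  rw [Scheme.Modules.smul_restrictAppIso_hom_apply]
  refine congrArg (· • (F.restrictAppIso P.ι O).hom s) ?_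
  let c : Γ(U.toScheme, ⊤) := U.topIso.inv a
  have hc : Coh.toGlobal (P.toScheme ↘ Spec (CommRingCat.of Γ(S, U))) a = (f.resLE U P hP).appTop c := by
    change (f.resLE U P hP ≫ hU.isoSpec.hom).appTop ((Scheme.ΓSpecIso (CommRingCat.of Γ(S, U))).inv a) = _
    rw [Scheme.Hom.comp_appTop]
    refine congrArg (f.resLE U P hP).appTop ?_
    rw [IsAffineOpen.isoSpec_hom_appTop]
    exact congrArg U.topIso.inv (ConcreteCategory.congr_hom (Scheme.ΓSpecIso Γ(S, U)).inv_hom_id a)
  rw [Scheme.Opens.ι_appIso]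
  change resO P.toScheme le_top (show Γ(P.toScheme, ⊤) from
    Coh.toGlobal (P.toScheme ↘ Spec (CommRingCat.of Γ(S, U))) a) = _
  rw [hc]
  have e1 : (f.resLE U P hP).appTop ≫ P.toScheme.presheaf.map (homOfLE (le_top : O ≤ ⊤)).op =
      (f.resLE U P hP).appLE ⊤ O le_top := rfl
  have e2 : U.topIso.inv ≫ (f.resLE U P hP).appLE ⊤ O le_top = f.appLE U (P.ι ''ᵁ O) h := by
    rw [Scheme.Hom.resLE_appLE, Scheme.Opens.topIso_inv]
    exact Scheme.Hom.map_appLE f _ _
  change ((f.resLE U P hP).appTop ≫ P.toScheme.presheaf.map (homOfLE (le_top : O ≤ ⊤)).op).hom c = _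
  rw [e1]
  exact ConcreteCategory.congr_hom e2 a

/-- The cochains on the pieces are the Čech cochains. -/
theorem exists_cech_cmp {U : S.Opens} (hU : IsAffineOpen U) {P : X.Opens} (hP : P ≤ f ⁻¹ᵁ U) {ι : Type u} (W : ι → P.toScheme.Opens)
    (O : ι → X.Opens) (hO : ∀ i, O i ≤ f ⁻¹ᵁ U) (hOW : ∀ i, P.ι ''ᵁ W i = O i) :
    letI : P.toScheme.Over (Spec (CommRingCat.of Γ(S, U))) := ⟨f.resLE U P hP ≫ hU.isoSpec.hom⟩
    ∃ (e0 : (C0 f F O hO : Type u) ≃ₗ[Γ(S, U)] (CoX Γ(S, U) W (F.restrict P.ι) 0 : Type u))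
      (e1 : (C1 f F O hO : Type u) ≃ₗ[Γ(S, U)] (CoX Γ(S, U) W (F.restrict P.ι) 1 : Type u)),
      ∀ x, e1 (d01 f F O hO x) = dL Γ(S, U) W (F.restrict P.ι) 0 (e0 x) := by
  let A : Type u := Γ(S, U)
  let F₀ := F.restrict P.ι
  letI : P.toScheme.Over (Spec (CommRingCat.of Γ(S, U))) := ⟨f.resLE U P hP ≫ hU.isoSpec.hom⟩
  have him : ∀ V : P.toScheme.Opens, P.ι ''ᵁ V ≤ f ⁻¹ᵁ U := fun V => by
    rintro _ ⟨x, -, rfl⟩
    exact hP x.2
  have h0 : ∀ a : Fin 1 → ι, P.ι ''ᵁ tupleProd W a = O (a 0) := fun a => by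
    rw [tupleProd_eq_iInf, show (⨅ k, W (a k)) = W (a 0) from iInf_unique (fun k => W (a k)), hOW]
  have h1 : ∀ a : Fin 2 → ι, P.ι ''ᵁ tupleProd W a = O (a 1) ⊓ O (a 0) := fun a => by
    rw [← hOW, ← hOW]
    refine SetLike.coe_injective ?_
    rw [Scheme.Hom.coe_image, tupleProd_eq_iInf, show (⨅ k, W (a k)) = W (a 1) ⊓ W (a 0) from
      le_antisymm (le_inf (iInf_le _ 1) (iInf_le _ 0)) (le_iInf fun k => by fin_cases k <;> simp)]
    exact (Set.image_inter P.ι.isOpenEmbedding.injective)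
  let r : ∀ (V : P.toScheme.Opens), Γ(F₀, V) ≃+ Γ(F, P.ι ''ᵁ V) := fun V =>
    (F.restrictAppIso P.ι V).addCommGroupIsoToAddEquiv
  let tr : ∀ {V V' : X.Opens}, V = V' → (Γ(F, V) ≃+ Γ(F, V')) := fun {V V'} e =>
    { toFun := res F e.ge
      invFun := res F e.le
      left_inv := fun s => (res_res F _ _ s).trans (res_self F _ s)
      right_inv := fun s => (res_res F _ _ s).trans (res_self F _ s)
      map_add' := map_add _ }
  let e0 : (C0 f F O hO : Type u) →ₗ[A] (CoX A W F₀ 0 : Type u) :=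
    { toFun := fun x a => ((r (tupleProd W a)).symm ((tr (h0 a)).symm (show Γ(F, O (a 0)) from x (a 0))) :)
      map_add' := fun x y => funext fun a => by
        change (r (tupleProd W a)).symm ((tr (h0 a)).symm
          ((show Γ(F, O (a 0)) from x (a 0)) + (show Γ(F, O (a 0)) from y (a 0)))) = _
        rw [map_add, map_add]
        rfl
      map_smul' := fun c x => funext fun a => by
        change (r (tupleProd W a)).symm ((tr (h0 a)).symm
          ((f.appLE U (O (a 0)) (hO (a 0))).hom c • (show Γ(F, O (a 0)) from x (a 0)))) =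
          secRing A (tupleProd W a) c • (r (tupleProd W a)).symm ((tr (h0 a)).symm (show Γ(F, O (a 0)) from x (a 0)))
        refine (r (tupleProd W a)).injective ?_
        rw [AddEquiv.apply_symm_apply]
        refine Eq.trans ?_ (secRing_restrict f hU hP _ (him _) c _).symm
        refine (res_appLE_smul f F (h0 a).le (hO (a 0)) c _).trans ?_
        exact congrArg _ ((r (tupleProd W a)).apply_symm_apply _).symm }
  let e1 : (C1 f F O hO : Type u) ≃ₗ[A] (CoX A W F₀ 1 : Type u) :=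
    { toFun := fun y a => ((r (tupleProd W a)).symm ((tr (h1 a)).symm (show Γ(F, O (a 1) ⊓ O (a 0)) from y (a 1, a 0))) :)
      invFun := fun z p => ((tr (h1 ![p.2, p.1])) (r (tupleProd W ![p.2, p.1])
        (show Γ(F₀, tupleProd W ![p.2, p.1]) from z ![p.2, p.1])) :)
      left_inv := fun y => funext fun p => by
        change (tr (h1 ![p.2, p.1])) (r (tupleProd W ![p.2, p.1]) ((r (tupleProd W ![p.2, p.1])).symm
          ((tr (h1 ![p.2, p.1])).symm (show Γ(F, O p.1 ⊓ O p.2) from y (p.1, p.2))))) = _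
        rw [AddEquiv.apply_symm_apply, AddEquiv.apply_symm_apply]
      right_inv := fun z => funext fun a => by
        have ha : a = ![a 0, a 1] := by
          funext k; fin_cases k <;> rfl
        obtain ⟨b, c, rfl⟩ : ∃ b c, a = ![b, c] := ⟨_, _, ha⟩
        change (r (tupleProd W ![b, c])).symm ((tr (h1 ![b, c])).symm ((tr (h1 ![b, c]))
          (r (tupleProd W ![b, c]) (show Γ(F₀, tupleProd W ![b, c]) from z ![b, c])))) = _
        rw [AddEquiv.symm_apply_apply, AddEquiv.symm_apply_apply]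
      map_add' := fun x y => funext fun a => by
        change (r (tupleProd W a)).symm ((tr (h1 a)).symm ((show Γ(F, O (a 1) ⊓ O (a 0)) from x (a 1, a 0)) +
          (show Γ(F, O (a 1) ⊓ O (a 0)) from y (a 1, a 0)))) = _
        rw [map_add, map_add]
        rfl
      map_smul' := fun c x => funext fun a => by
        change (r (tupleProd W a)).symm ((tr (h1 a)).symm
          ((f.appLE U (O (a 1) ⊓ O (a 0)) (inf_le_left.trans (hO (a 1)))).hom c •
            (show Γ(F, O (a 1) ⊓ O (a 0)) from x (a 1, a 0)))) =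
          secRing A (tupleProd W a) c • (r (tupleProd W a)).symm
            ((tr (h1 a)).symm (show Γ(F, O (a 1) ⊓ O (a 0)) from x (a 1, a 0)))
        refine (r (tupleProd W a)).injective ?_
        rw [AddEquiv.apply_symm_apply]
        refine Eq.trans ?_ (secRing_restrict f hU hP _ (him _) c _).symm
        refine (res_appLE_smul f F (h1 a).le (inf_le_left.trans (hO (a 1))) c _).trans ?_
        exact congrArg _ ((r (tupleProd W a)).apply_symm_apply _).symm }
  have he0 : Function.Surjective e0 := fun z => by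
    refine ⟨fun i => ((tr (h0 fun _ => i)) (r _ (show Γ(F₀, tupleProd W fun _ => i) from z fun _ => i)) :), funext fun a => ?_⟩
    obtain ⟨i, rfl⟩ : ∃ i, a = fun _ => i := ⟨a 0, funext fun k => by rw [Fin.fin_one_eq_zero k]⟩
    change (r (tupleProd W fun _ => i)).symm ((tr (h0 fun _ => i)).symm ((tr (h0 fun _ => i))
      (r _ (show Γ(F₀, tupleProd W fun _ => i) from z fun _ => i)))) = _
    rw [AddEquiv.symm_apply_apply, AddEquiv.symm_apply_apply]
  have hcomm : ∀ x, e1 (d01 f F O hO x) = dL A W F₀ 0 (e0 x) := fun x => funext fun a => by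
    refine (r (tupleProd W a)).injective ?_
    change r (tupleProd W a) ((r (tupleProd W a)).symm ((tr (h1 a)).symm
        (res F inf_le_left (show Γ(F, O (a 1)) from x (a 1)) - res F inf_le_right (show Γ(F, O (a 0)) from x (a 0))))) =
      r (tupleProd W a) (∑ k : Fin 2, (-1 : ℤ) ^ (k : ℕ) • res F₀ (leOfHom (tupleDrop W a k))
        ((r (tupleProd W (a ∘ k.succAbove))).symm ((tr (h0 (a ∘ k.succAbove))).symm
          (show Γ(F, O ((a ∘ k.succAbove) 0)) from x ((a ∘ k.succAbove) 0)))))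
    have hr : ∀ {V' V : P.toScheme.Opens} (hle : V' ≤ V) (s : Γ(F, P.ι ''ᵁ V)),
        r V' (res F₀ hle ((r V).symm s)) = res F (P.ι.image_mono hle) s := fun {V' V} hle s => by
      conv_rhs => rw [← (r V).apply_symm_apply s]
      rfl
    rw [AddEquiv.apply_symm_apply, Fin.sum_univ_two, map_add, map_zsmul, map_zsmul, hr, hr]
    change res F (h1 a).le _ = (-1 : ℤ) ^ (0 : ℕ) • res F _ (res F (h0 (a ∘ Fin.succAbove 0)).le (show Γ(F, O (a 1)) from x (a 1))) +
      (-1 : ℤ) ^ (1 : ℕ) • res F _ (res F (h0 (a ∘ Fin.succAbove 1)).le (show Γ(F, O (a 0)) from x (a 0)))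
    rw [pow_zero, one_zsmul, pow_one, neg_one_zsmul, ← sub_eq_add_neg, map_sub, res_res, res_res, res_res, res_res]
    rfl
  have he0' : Function.Injective e0 := fun x y hxy => funext fun i => by
    have h := congrFun hxy fun _ => i
    change (r (tupleProd W fun _ => i)).symm ((tr (h0 fun _ => i)).symm (show Γ(F, O i) from x i)) =
      (r (tupleProd W fun _ => i)).symm ((tr (h0 fun _ => i)).symm (show Γ(F, O i) from y i)) at h
    exact ((tr (h0 fun _ => i)).symm.injective ((r (tupleProd W fun _ => i)).symm.injective h) :)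
  exact ⟨LinearEquiv.ofBijective e0 ⟨he0', he0⟩, e1, hcomm⟩

/-- The cokernel of the difference map is that of the Čech complex. -/
theorem flat_coker_d01 {U : S.Opens} (hU : IsAffineOpen U) {P : X.Opens} (hP : P ≤ f ⁻¹ᵁ U) {ι : Type u} (W : ι → P.toScheme.Opens)
    (O : ι → X.Opens) (hO : ∀ i, O i ≤ f ⁻¹ᵁ U) (hOW : ∀ i, P.ι ''ᵁ W i = O i)
    (hflat : letI : P.toScheme.Over (Spec (CommRingCat.of Γ(S, U))) := ⟨f.resLE U P hP ≫ hU.isoSpec.hom⟩
      Module.Flat Γ(S, U) (FlatCx.Opc ((CC Γ(S, U) W).obj (F.restrict P.ι)) 0 1)) :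
    Module.Flat Γ(S, U) ((C1 f F O hO : Type u) ⧸ LinearMap.range (d01 f F O hO)) := by
  let A : Type u := Γ(S, U)
  let F₀ := F.restrict P.ι
  letI : P.toScheme.Over (Spec (CommRingCat.of Γ(S, U))) := ⟨f.resLE U P hP ≫ hU.isoSpec.hom⟩
  obtain ⟨e0, e1, hcomm⟩ := exists_cech_cmp f hU hP W O hO hOW (F := F)
  have hd : (((CC A W).obj F₀).d 0 1).hom = dL A W F₀ 0 := by
    rw [CC_d]
    rfl
  have hrange : (LinearMap.range (d01 f F O hO)).map (e1 : (C1 f F O hO : Type u) →ₗ[A] (CoX A W F₀ 1 : Type u)) =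
      LinearMap.range (dL A W F₀ 0) := by
    rw [← LinearMap.range_comp, show (e1 : (C1 f F O hO : Type u) →ₗ[A] (CoX A W F₀ 1 : Type u)) ∘ₗ d01 f F O hO =
      dL A W F₀ 0 ∘ₗ (e0 : (C0 f F O hO : Type u) →ₗ[A] (CoX A W F₀ 0 : Type u)) from LinearMap.ext hcomm,
      LinearMap.range_comp, LinearEquiv.range, Submodule.map_top]
  haveI : Module.Flat A ((CoX A W F₀ 1 : Type u) ⧸ LinearMap.range (dL A W F₀ 0)) := by
    haveI : Module.Flat A ((((CC A W).obj F₀).X 1 : Type u) ⧸ LinearMap.range (((CC A W).obj F₀).d 0 1).hom) := hflat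
    exact Module.Flat.of_linearEquiv (Submodule.quotEquivOfEq _ _ (congrArg LinearMap.range hd)).symm
  exact Module.Flat.of_linearEquiv (Submodule.Quotient.equiv _ _ e1 hrange)


/-- The augmentation on an open. -/
def augP {U : S.Opens} {ι : Type u} {P : X.Opens} (hP : P ≤ f ⁻¹ᵁ U) (O : ι → X.Opens) (hO : ∀ i, O i ≤ P) :
    (SM f F P hP : Type u) →ₗ[Γ(S, U)] (C0 f F O (fun i => (hO i).trans hP) : Type u) :=
  { toFun := fun s i => (res F (hO i) (show Γ(F, P) from s) :)
    map_add' := fun s t => funext fun i => map_add (res F (hO i)) (show Γ(F, P) from s) (show Γ(F, P) from t)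
    map_smul' := fun a s => funext fun i => res_appLE_smul f F (hO i) hP a (show Γ(F, P) from s) }

lemma augP_injective_exact {U : S.Opens} {ι : Type u} {P : X.Opens} (hP : P ≤ f ⁻¹ᵁ U) (O : ι → X.Opens)
    (hO : ∀ i, O i ≤ P) (hcov : P ≤ iSup O) :
    Function.Injective (augP f (F := F) hP O hO) ∧
      Function.Exact (augP f (F := F) hP O hO) (d01 f F O (fun i => (hO i).trans hP)) := by
  obtain ⟨h1, h2⟩ := res_cover_exact F O hO hcov (fun i j => O i ⊓ O j) fun _ _ => rfl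
  refine ⟨fun s t h => h1 s t fun i => congrFun h i, fun x => ?_⟩
  refine Iff.trans ?_ ((h2 fun i => (show Γ(F, O i) from x i)).trans ⟨fun ⟨s, hs⟩ => ⟨s, funext hs⟩,
    fun ⟨s, hs⟩ => ⟨s, fun i => congrFun hs i⟩⟩)
  exact ⟨fun h i j => sub_eq_zero.1 (congrFun h (i, j)), fun h => funext fun p => sub_eq_zero.2 (h p.1 p.2)⟩

/-- Čech cochains on an open are flat when the module is flat over the base at its points. -/
lemma flat_CC_open {U : S.Opens} (hU : IsAffineOpen U) {P : X.Opens} (hP : P ≤ f ⁻¹ᵁ U) {ι : Type u} [Finite ι]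
    (W : ι → P.toScheme.Opens) (hW : ∀ (n : ℕ) (a : Fin (n + 1) → ι), IsAffineOpen (tupleProd W a))
    (hq : Coh.IsQCoh F) (hfl : ∀ x ∈ P, FlatMod.IsFlatOverAt f F x) (n : ℕ) :
    letI : P.toScheme.Over (Spec (CommRingCat.of Γ(S, U))) := ⟨f.resLE U P hP ≫ hU.isoSpec.hom⟩
    Module.Flat Γ(S, U) (((CC Γ(S, U) W).obj (F.restrict P.ι)).X n) := by
  letI : P.toScheme.Over (Spec (CommRingCat.of Γ(S, U))) := ⟨f.resLE U P hP ≫ hU.isoSpec.hom⟩
  haveI : ∀ a : Fin (n + 1) → ι,
      Module.Flat Γ(S, U) ((secA Γ(S, U) (tupleProd W a)).obj (F.restrict P.ι) : Type u) := fun a => by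
    have him : ∀ x ∈ P.ι ''ᵁ tupleProd W a, x ∈ P := by
      rintro _ ⟨x, -, rfl⟩
      exact x.2
    have h : P.ι ''ᵁ tupleProd W a ≤ f ⁻¹ᵁ U := fun x hx => hP (him x hx)
    haveI : Module.Flat Γ(S, U) (SM f F (P.ι ''ᵁ tupleProd W a) h : Type u) :=
      (FlatModB.flat_sections_iff f F hq ((hW n a).image_of_isOpenImmersion P.ι) hU _).2 fun x hx => hfl x (him x hx)
    exact Module.Flat.of_linearEquiv (M := (SM f F (P.ι ''ᵁ tupleProd W a) h : Type u))
      { toFun := fun s => ((F.restrictAppIso P.ι (tupleProd W a)).hom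
          (show Γ(F.restrict P.ι, tupleProd W a) from s) :)
        invFun := fun s => ((F.restrictAppIso P.ι (tupleProd W a)).inv
          (show Γ(F, P.ι ''ᵁ tupleProd W a) from s) :)
        left_inv := fun s => ConcreteCategory.congr_hom (F.restrictAppIso P.ι (tupleProd W a)).hom_inv_id _
        right_inv := fun s => ConcreteCategory.congr_hom (F.restrictAppIso P.ι (tupleProd W a)).inv_hom_id _
        map_add' := fun s t => map_add (F.restrictAppIso P.ι (tupleProd W a)).hom.hom _ _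
        map_smul' := fun r s => secRing_restrict f hU hP _ h r (show Γ(F.restrict P.ι, tupleProd W a) from s) }
  exact flat_pi Γ(S, U) fun a : Fin (n + 1) → ι => ((secA Γ(S, U) (tupleProd W a)).obj (F.restrict P.ι) : Type u)

/-- Sections over the preimage commute with base change when the cohomology over it is flat. -/
theorem isBaseChange_sections (hq : Coh.IsQCoh F) {U : S.Opens} (hU : IsAffineOpen U) {P : X.Opens}
    (hP : P ≤ f ⁻¹ᵁ U) (hPc : IsCompact (P : Set X)) [IsSeparated (P.ι ≫ f)]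
    (hfl : ∀ x ∈ P, FlatMod.IsFlatOverAt f F x)
    (hH : letI : P.toScheme.Over (Spec (CommRingCat.of Γ(S, U))) := ⟨f.resLE U P hP ≫ hU.isoSpec.hom⟩
      ∀ p : ℕ, Module.Flat Γ(S, U) (Coh.HH P.toScheme (F.restrict P.ι) p))
    {T X' : Scheme.{u}} {g : T ⟶ S} {f' : X' ⟶ T} {g' : X' ⟶ X} (hsq : IsPullback g' f' f g)
    {V : T.Opens} (hV : IsAffineOpen V) (hVU : V ≤ g ⁻¹ᵁ U) {P' : X'.Opens} (hP' : P' = g' ⁻¹ᵁ P ⊓ f' ⁻¹ᵁ V) :
    letI : Algebra Γ(S, U) Γ(T, V) := (g.appLE U V hVU).hom.toAlgebra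
    letI := Module.compHom (SM f' ((Scheme.Modules.pullback g').obj F) P' (hP'.le.trans inf_le_right) : Type u)
      (g.appLE U V hVU).hom
    haveI : IsScalarTower Γ(S, U) Γ(T, V) (SM f' ((Scheme.Modules.pullback g').obj F) P' (hP'.le.trans inf_le_right) : Type u) :=
      IsScalarTower.of_algebraMap_smul fun _ _ => rfl
    IsBaseChange Γ(T, V) (pullPiece F hVU hsq.w hP (hP'.le.trans inf_le_left) (hP'.le.trans inf_le_right)) := by
  subst hP'
  let A : Type u := Γ(S, U)
  let B : Type u := Γ(T, V)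
  letI : P.toScheme.Over (Spec (CommRingCat.of Γ(S, U))) := ⟨f.resLE U P hP ≫ hU.isoSpec.hom⟩
  haveI : CompactSpace P.toScheme := isCompact_iff_compactSpace.mp hPc
  haveI : IsSeparated (f.resLE U P hP) := by
    haveI : IsSeparated (f.resLE U P hP ≫ U.ι) := by rw [Scheme.Hom.resLE_comp_ι]; infer_instance
    exact IsSeparated.of_comp _ U.ι
  haveI : IsSeparated (P.toScheme ↘ Spec (CommRingCat.of A)) :=
    inferInstanceAs (IsSeparated (f.resLE U P hP ≫ hU.isoSpec.hom))
  haveI : P.toScheme.IsSeparated := by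
    constructor
    rw [← terminal.comp_from (P.toScheme ↘ Spec (CommRingCat.of A))]
    infer_instance
  obtain ⟨ι, hι, W, hW, hcov⟩ := exists_cover P.toScheme
  haveI := hι
  let O : ι → X.Opens := fun i => P.ι ''ᵁ W i
  have hOP : ∀ i, O i ≤ P := fun i => by
    rintro _ ⟨x, -, rfl⟩
    exact x.2
  have hO : ∀ i, O i ≤ f ⁻¹ᵁ U := fun i => (hOP i).trans hP
  have hOa : ∀ i, IsAffineOpen (O i) := fun i => by
    have := hW 0 fun _ => i
    rw [tupleProd_eq_iInf, iInf_const] at this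
    exact this.image_of_isOpenImmersion P.ι
  have hOa₂ : ∀ i j, IsAffineOpen (O i ⊓ O j) := fun i j => by
    have := (hW 1 ![i, j]).image_of_isOpenImmersion P.ι
    rwa [show P.ι ''ᵁ tupleProd W ![i, j] = O i ⊓ O j from SetLike.coe_injective (by
      rw [tupleProd_eq_iInf, show (⨅ k, W (![i, j] k)) = W i ⊓ W j from
        le_antisymm (le_inf (iInf_le _ 0) (iInf_le _ 1)) (le_iInf fun k => by fin_cases k <;> simp)]
      exact Set.image_inter P.ι.isOpenEmbedding.injective)] at this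
  have hcovO : P ≤ iSup O := fun x hx => by
    have : (⟨x, hx⟩ : P.toScheme) ∈ iSup W := hcov ▸ trivial
    obtain ⟨i, hi⟩ := Opens.mem_iSup.1 this
    exact Opens.mem_iSup.2 ⟨i, ⟨⟨x, hx⟩, hi, rfl⟩⟩
  let O' : ι → X'.Opens := fun i => g' ⁻¹ᵁ O i ⊓ f' ⁻¹ᵁ V
  have hO' : ∀ i, O' i ≤ f' ⁻¹ᵁ V := fun i => inf_le_right
  have hO'P : ∀ i, O' i ≤ g' ⁻¹ᵁ P ⊓ f' ⁻¹ᵁ V := fun i => inf_le_inf_right _ (g'.preimage_mono (hOP i))
  have hO'₂ : ∀ i j, O' i ⊓ O' j = g' ⁻¹ᵁ (O i ⊓ O j) ⊓ f' ⁻¹ᵁ V := fun i j => by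
    change (g' ⁻¹ᵁ O i ⊓ f' ⁻¹ᵁ V) ⊓ (g' ⁻¹ᵁ O j ⊓ f' ⁻¹ᵁ V) = g' ⁻¹ᵁ (O i ⊓ O j) ⊓ f' ⁻¹ᵁ V
    rw [Scheme.Hom.preimage_inf, inf_inf_inf_comm, inf_idem]
  have hcov' : g' ⁻¹ᵁ P ⊓ f' ⁻¹ᵁ V ≤ iSup O' := fun x hx => by
    obtain ⟨i, hi⟩ := Opens.mem_iSup.1 (hcovO hx.1)
    exact Opens.mem_iSup.2 ⟨i, hi, hx.2⟩
  let G := (Scheme.Modules.pullback g').obj F
  letI : Algebra A B := (g.appLE U V hVU).hom.toAlgebra
  letI : ∀ i, Module A (SM f' G (O' i) (hO' i) : Type u) := fun i => Module.compHom _ (g.appLE U V hVU).hom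
  haveI : ∀ i, IsScalarTower A B (SM f' G (O' i) (hO' i) : Type u) := fun i =>
    IsScalarTower.of_algebraMap_smul fun _ _ => rfl
  letI : ∀ p : ι × ι, Module A (SM f' G (O' p.1 ⊓ O' p.2) (inf_le_left.trans (hO' p.1)) : Type u) :=
    fun p => Module.compHom _ (g.appLE U V hVU).hom
  haveI : ∀ p : ι × ι, IsScalarTower A B (SM f' G (O' p.1 ⊓ O' p.2) (inf_le_left.trans (hO' p.1)) : Type u) :=
    fun p => IsScalarTower.of_algebraMap_smul fun _ _ => rfl
  letI : Module A (SM f' G (g' ⁻¹ᵁ P ⊓ f' ⁻¹ᵁ V) inf_le_right : Type u) := Module.compHom _ (g.appLE U V hVU).hom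
  haveI : IsScalarTower A B (SM f' G (g' ⁻¹ᵁ P ⊓ f' ⁻¹ᵁ V) inf_le_right : Type u) :=
    IsScalarTower.of_algebraMap_smul fun _ _ => rfl
  let ψ₀ : (C0 f F O hO : Type u) →ₗ[A] (∀ i, (SM f' G (O' i) (hO' i) : Type u)) :=
    LinearMap.pi fun i => pullPiece F hVU hsq.w (hO i) (O' := O' i) inf_le_left inf_le_right ∘ₗ LinearMap.proj i
  let ψ₁ : (C1 f F O hO : Type u) →ₗ[A] (∀ p : ι × ι, (SM f' G (O' p.1 ⊓ O' p.2) (inf_le_left.trans (hO' p.1)) : Type u)) :=
    LinearMap.pi fun p => pullPiece F hVU hsq.w (inf_le_left.trans (hO p.1)) (O' := O' p.1 ⊓ O' p.2)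
      ((hO'₂ p.1 p.2).le.trans inf_le_left) (inf_le_left.trans (hO' p.1)) ∘ₗ LinearMap.proj p
  have h₀ : IsBaseChange B ψ₀ := IsBaseChange.pi _ fun i =>
    isBaseChange_pullPiece F hVU hsq hq hU hV (hO i) (hOa i) rfl
  have h₁ : IsBaseChange B ψ₁ := IsBaseChange.pi _ fun p =>
    isBaseChange_pullPiece F hVU hsq hq hU hV (inf_le_left.trans (hO p.1)) (hOa₂ p.1 p.2) (hO'₂ p.1 p.2)
  obtain ⟨hinj, hex⟩ := augP_injective_exact f (F := F) hP O hOP hcovO
  obtain ⟨hinj', hex'⟩ := augP_injective_exact f' (F := G) (inf_le_right : g' ⁻¹ᵁ P ⊓ f' ⁻¹ᵁ V ≤ f' ⁻¹ᵁ V) O' hO'P hcov'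
  let ζ : (SM f F P hP : Type u) →ₗ[A] (SM f' G (g' ⁻¹ᵁ P ⊓ f' ⁻¹ᵁ V) inf_le_right : Type u) :=
    pullPiece F hVU hsq.w hP inf_le_left inf_le_right
  have hd : ∀ x, d01 f' G O' hO' (ψ₀ x) = ψ₁ (d01 f F O hO x) := fun x => funext fun p => by
      change res G inf_le_left (ModDesc.pullSectLE g' F (O p.1) (O' p.1) inf_le_left (show Γ(F, O p.1) from x p.1)) -
          res G inf_le_right (ModDesc.pullSectLE g' F (O p.2) (O' p.2) inf_le_left (show Γ(F, O p.2) from x p.2)) =
        ModDesc.pullSectLE g' F (O p.1 ⊓ O p.2) (O' p.1 ⊓ O' p.2) _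
          (res F inf_le_left (show Γ(F, O p.1) from x p.1) - res F inf_le_right (show Γ(F, O p.2) from x p.2))
      rw [map_sub, ModDesc.res_pullSectLE g' F (inf_le_left : O p.1 ⊓ O p.2 ≤ O p.1) inf_le_left inf_le_left
          ((hO'₂ p.1 p.2).le.trans inf_le_left),
        ModDesc.res_pullSectLE g' F (inf_le_right : O p.1 ⊓ O p.2 ≤ O p.2) inf_le_right inf_le_left
          ((hO'₂ p.1 p.2).le.trans inf_le_left)]
  have hz : ∀ z, augP f' (F := G) inf_le_right O' hO'P (ζ z) = ψ₀ (augP f hP O hOP z) := fun z => funext fun i =>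
    ModDesc.res_pullSectLE g' F (hOP i) (hO'P i) inf_le_left inf_le_left (show Γ(F, P) from z)
  have hflat : Module.Flat A (FlatCx.Opc ((CC A W).obj (F.restrict P.ι)) 0 1) := by
    have h := flat_opc A W hW hcov (F.restrict P.ι) (Groth.Agent.QC.isQCoh_restrict _ hq)
      (flat_CC_open f hU hP W hW hq hfl) hH 0
    rwa [CochainComplex.next ℕ 0] at h
  haveI : ∀ p : ι × ι, Module.Flat A (SM f F (O p.1 ⊓ O p.2) (inf_le_left.trans (hO p.1)) : Type u) := fun p =>
    (FlatModB.flat_sections_iff f F hq (hOa₂ p.1 p.2) hU _).2 fun x hx => hfl x (hOP p.1 hx.1)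
  haveI : Module.Flat A (C1 f F O hO : Type u) := flat_pi A _
  haveI : Module.Flat A ((C1 f F O hO : Type u) ⧸ LinearMap.range (d01 f F O hO)) :=
    flat_coker_d01 f hU hP W O hO (fun i => rfl) hflat
  exact isBaseChange_ker hinj hex (ι' := augP f' (F := G) inf_le_right O' hO'P) (d' := d01 f' G O' hO') hinj' hex' h₀ h₁ hd ζ hz

end Groth.Agent.PicProp
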