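import Groth.Agent.PicProp.Ker
import Groth.Agent.KFlat.PullTensor
import Groth.Agent.CohFinite.Tensor
import Groth.Agent.ClSubLib.EssSurj
import Groth.Agent.ExtShX.Divisor

/-!
Pasting of base change squares on inverse images; the unit of a closed immersion; twisting by an
invertible module is full.
-/

set_option autoImplicit false
set_option backward.isDefEq.respectTransparency false
set_option backward.isDefEq.respectTransparency.types false
set_option linter.style.haveILetI false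
set_option linter.unusedSectionVars false
set_option maxHeartbeats 1000000

universe u

open CategoryTheory CategoryTheory.Limits AlgebraicGeometry TopologicalSpace Opposite MonoidalCategory
open Groth.Agent.QC (res resO res_res res_self res_smul app_res)

noncomputable section

namespace Groth.Agent.PicProp

section Ext

/-- Morphisms out of an inverse image are determined by the pulled back sections. -/
theorem pullback_hom_ext {X Y : Scheme.{u}} (f : X ⟶ Y) {M : Y.Modules} {N : X.Modules}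
    {a b : (Scheme.Modules.pullback f).obj M ⟶ N}
    (h : ∀ (U : Y.Opens) (m : Γ(M, U)),
      a.app (f ⁻¹ᵁ U) (OmegaSh.pullSect f M U m) = b.app (f ⁻¹ᵁ U) (OmegaSh.pullSect f M U m)) : a = b := by
  apply ((Scheme.Modules.pullbackPushforwardAdjunction f).homEquiv _ _).injective
  refine Scheme.Modules.hom_ext _ _ fun U => ?_
  ext m
  rw [Adjunction.homEquiv_unit, Adjunction.homEquiv_unit]
  exact h U m

/-- Morphisms out of an iterated inverse image are determined by iterated pulled back sections. -/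
theorem pullback_hom_ext₃ {W X Y Z : Scheme.{u}} (f : W ⟶ X) (g : X ⟶ Y) (h : Y ⟶ Z) {M : Z.Modules}
    {N : W.Modules}
    {a b : (Scheme.Modules.pullback f).obj ((Scheme.Modules.pullback g).obj ((Scheme.Modules.pullback h).obj M)) ⟶ N}
    (e : ∀ (U : Z.Opens) (m : Γ(M, U)),
      a.app (f ⁻¹ᵁ (g ⁻¹ᵁ (h ⁻¹ᵁ U))) (OmegaSh.pullSect f _ (g ⁻¹ᵁ (h ⁻¹ᵁ U))
        (OmegaSh.pullSect g _ (h ⁻¹ᵁ U) (OmegaSh.pullSect h M U m))) =
      b.app (f ⁻¹ᵁ (g ⁻¹ᵁ (h ⁻¹ᵁ U))) (OmegaSh.pullSect f _ (g ⁻¹ᵁ (h ⁻¹ᵁ U))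
        (OmegaSh.pullSect g _ (h ⁻¹ᵁ U) (OmegaSh.pullSect h M U m)))) : a = b := by
  apply ((Scheme.Modules.pullbackPushforwardAdjunction f).homEquiv _ _).injective
  apply ((Scheme.Modules.pullbackPushforwardAdjunction g).homEquiv _ _).injective
  refine pullback_hom_ext h fun U m => ?_
  simp only [Adjunction.homEquiv_unit]
  exact e U m

/-- Pulling a restricted section back. -/
theorem pullSect_res {X Y : Scheme.{u}} (f : X ⟶ Y) (M : Y.Modules) {U V : Y.Opens} (e : V ≤ U) (m : Γ(M, U)) :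
    OmegaSh.pullSect f M V (res M e m) = res _ (f.preimage_mono e) (OmegaSh.pullSect f M U m) :=
  OmegaSh.pullSect_map f M e m

variable {X₁ X₂ X₃ Y₁ Y₂ Y₃ : Scheme.{u}} {f₁ : X₁ ⟶ Y₁} {f₂ : X₂ ⟶ Y₂} {f₃ : X₃ ⟶ Y₃}
  {g₁ : Y₂ ⟶ Y₁} {g₁' : X₂ ⟶ X₁} {g₂ : Y₃ ⟶ Y₂} {g₂' : X₃ ⟶ X₂} {h : Y₃ ⟶ Y₁} {h' : X₃ ⟶ X₁}

/-- The comparisons of inverse images around pasted squares. -/
theorem sqIso_paste (w₁ : g₁' ≫ f₁ = f₂ ≫ g₁) (w₂ : g₂' ≫ f₂ = f₃ ≫ g₂) (e : g₂ ≫ g₁ = h) (e' : g₂' ≫ g₁' = h')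
    (w : h' ≫ f₁ = f₃ ≫ h) (F : Y₁.Modules) :
    (sqIso w₂).inv.app ((Scheme.Modules.pullback g₁).obj F) ≫
        (Scheme.Modules.pullback g₂').map ((sqIso w₁).inv.app F) ≫
        (Scheme.Modules.pullbackComp g₂' g₁' ≪≫ Scheme.Modules.pullbackCongr e').hom.app
          ((Scheme.Modules.pullback f₁).obj F) =
      (Scheme.Modules.pullback f₃).map ((Scheme.Modules.pullbackComp g₂ g₁ ≪≫ Scheme.Modules.pullbackCongr e).hom.app F) ≫
        (sqIso w).inv.app F := by
  subst e e'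
  simp only [Scheme.Modules.pullbackCongr, eqToIso_refl, Iso.trans_refl]
  refine pullback_hom_ext₃ f₃ g₂ g₁ fun U m => ?_
  let O := f₃ ⁻¹ᵁ (g₂ ⁻¹ᵁ (g₁ ⁻¹ᵁ U))
  have hO₁ : f₂ ⁻¹ᵁ (g₁ ⁻¹ᵁ U) ≤ g₁' ⁻¹ᵁ (f₁ ⁻¹ᵁ U) := by
    rw [← Scheme.Hom.comp_preimage, ← w₁, Scheme.Hom.comp_preimage]
  have hO₂ : O ≤ g₂' ⁻¹ᵁ (f₂ ⁻¹ᵁ (g₁ ⁻¹ᵁ U)) := by
    rw [← Scheme.Hom.comp_preimage g₂', w₂, Scheme.Hom.comp_preimage]
  have hO : O ≤ g₂' ⁻¹ᵁ (g₁' ⁻¹ᵁ (f₁ ⁻¹ᵁ U)) := hO₂.trans (g₂'.preimage_mono hO₁)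
  let θ := (Scheme.Modules.pullbackComp g₂' g₁').hom.app ((Scheme.Modules.pullback f₁).obj F)
  let e₁ := (Scheme.Modules.pullback g₂').map ((sqIso w₁).inv.app F)
  simp only [Scheme.Modules.Hom.comp_app, ConcreteCategory.comp_apply]
  trans res _ hO (OmegaSh.pullSect (g₂' ≫ g₁') _ (f₁ ⁻¹ᵁ U) (OmegaSh.pullSect f₁ F U m))
  · refine (congrArg (fun z => θ.app O (e₁.app O z))
      (sqIso_inv_pullSect w₂ _ (g₁ ⁻¹ᵁ U) (OmegaSh.pullSect g₁ F U m) hO₂)).trans ?_
    refine (congrArg (θ.app O) (app_res e₁ hO₂ _).symm).trans ?_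
    refine (congrArg (fun z => θ.app O (res _ hO₂ z)) (QC.app_pullSect g₂' _ _ _)).trans ?_
    refine (congrArg (fun z => θ.app O (res _ hO₂ (OmegaSh.pullSect g₂' _ _ z)))
      (sqIso_inv_pullSect w₁ F U m hO₁)).trans ?_
    refine (congrArg (fun z => θ.app O (res _ hO₂ z)) (pullSect_res g₂' _ hO₁ _)).trans ?_
    refine (congrArg (θ.app O) (res_res _ _ _ _)).trans ?_
    refine (app_res θ hO _).symm.trans ?_
    exact congrArg (res _ hO) (QC.pullbackComp_hom_pullSect g₂' g₁' _ _ _)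
  · symm
    refine (congrArg (fun z => ((sqIso w).inv.app F).app O z)
      ((QC.app_pullSect f₃ _ _ _).trans (congrArg (OmegaSh.pullSect f₃ _ _)
        (QC.pullbackComp_hom_pullSect g₂ g₁ F U m)))).trans ?_
    exact sqIso_inv_pullSect w F U m hO

end Ext

section Closed

variable {Z X : Scheme.{u}} (i : Z ⟶ X) [IsClosedImmersion i]

/-- The unit of a closed immersion is an epimorphism. -/
theorem epi_unit_closed (M : X.Modules) :
    Epi ((Scheme.Modules.pullbackPushforwardAdjunction i).unit.app M) := by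
  let η := (Scheme.Modules.pullbackPushforwardAdjunction i).unit.app M
  refine Abelian.epi_of_cokernel_π_eq_zero _ ((KFlat.isZero_of_stalks _ fun y => ?_).eq_of_tgt _ _)
  have hs : Function.Surjective ((DerSch.stalkFunctor X y).map η).hom := by
    by_cases hy : y ∈ Set.range i
    swap
    · have h := KFlat.subsingleton_stalk_push i ((Scheme.Modules.pullback i).obj M) hy
      exact fun t => ⟨0, @Subsingleton.elim _ h _ _⟩
    obtain ⟨z, rfl⟩ := hy
    have hk : Function.Surjective (KFlat.kap i z M) := by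
      have hφ : Function.Surjective (i.stalkMap z).hom := i.stalkMap_surjective z
      let T := (DerSch.stalkFunctor Z z).obj ((Scheme.Modules.pullback i).obj M)
      let A : Submodule (Z.presheaf.stalk z) T :=
        { carrier := Set.range (KFlat.kap i z M)
          add_mem' := by rintro _ _ ⟨a, rfl⟩ ⟨b, rfl⟩; exact ⟨a + b, map_add _ _ _⟩
          zero_mem' := ⟨0, map_zero _⟩
          smul_mem' := by
            rintro c _ ⟨a, rfl⟩
            obtain ⟨r, rfl⟩ := hφ c
            exact ⟨r • a, KFlat.kap_smul i z M r a⟩ }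
      have h := KFlat.pull_stalk_ext i z M (g := ModuleCat.ofHom A.mkQ) (g' := 0)
        fun m => (Submodule.Quotient.mk_eq_zero A).mpr ⟨m, rfl⟩
      exact fun t => (Submodule.Quotient.mk_eq_zero A).mp (congrArg (fun g => g.hom t) h)
    intro t
    obtain ⟨m, hm⟩ := hk (KFlat.pushStalk i z _ t)
    refine ⟨m, (KFlat.pushStalk_bijective i z _).1 (Eq.trans ?_ hm)⟩
    obtain ⟨W, hW, s, rfl⟩ := KFlat.exists_pgerm (DCoh.toP.obj M) (i.base z) m
    refine (congrArg (KFlat.pushStalk i z _) (KFlat.pstMap_germ (DCoh.toP.map η) (i.base z) hW s)).trans ?_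
    exact (KFlat.pushStalk_germ i z _ W hW _).trans (KFlat.kap_germ i z M W hW s).symm
  haveI : Epi ((DerSch.stalkFunctor X y).map η) := (ModuleCat.epi_iff_surjective _).2 hs
  exact (isZero_cokernel_of_epi ((DerSch.stalkFunctor X y).map η)).of_iso
    (PreservesCokernel.iso (DerSch.stalkFunctor X y) _)

end Closed

section Tensor

open Groth.Agent.KFlat

variable {X : Scheme.{u}}

/-- The two descriptions of twisting a morphism. -/
theorem tmap_eq_tensorBi {M M' : X.Modules} (a : M ⟶ M') (N : X.Modules) :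
    ((schB X).map a).app N = CohFinite.tmap a N := by
  refine TMul.hom_ext fun U m l => ?_
  refine Eq.trans ?_ (CohFinite.tmap_tm a N m l).symm
  exact congrArg (fun t => (t.app (Opposite.op U)).hom (ptmul _ _ m l))
    (shUnit_natural (DCoh.toP.map a ▷ DCoh.toP.obj N)).symm

/-- Twisting by an invertible module is full. -/
theorem exists_tmap_eq {M M' L L' : X.Modules} (e : CohB1.tensorMod L L' ≅ Coh.structureModule X)
    (ψ : CohB1.tensorMod M L ⟶ CohB1.tensorMod M' L) : ∃ g : M ⟶ M', CohFinite.tmap g L = ψ := by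
  haveI := ExtShX.isEquivalence_tensor e
  let b : (schB X).flip.obj L ≅ (schB X).obj L :=
    Functor.isoWhiskerLeft DCoh.toP (Functor.isoWhiskerRight
      (BraidedCategory.tensorLeftIsoTensorRight (C := CohB1.PMod X) (DCoh.toP.obj L)).symm DCoh.shP)
  haveI : ((schB X).flip.obj L).IsEquivalence := Functor.isEquivalence_of_iso b.symm
  obtain ⟨g, hg⟩ := ((schB X).flip.obj L).map_surjective (X := M) (Y := M') ψ
  exact ⟨g, (tmap_eq_tensorBi g L).symm.trans hg⟩

/-- Inverse images commute with twisting a morphism. -/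
theorem pullback_map_tmap {W : Scheme.{u}} (f : W ⟶ X) {M M' : X.Modules} (a : M ⟶ M') (N : X.Modules) :
    CohFinite.tmap ((Scheme.Modules.pullback f).map a) ((Scheme.Modules.pullback f).obj N) ≫
        (pullTensorIso f M' N).hom =
      (pullTensorIso f M N).hom ≫ (Scheme.Modules.pullback f).map (CohFinite.tmap a N) := by
  rw [← tmap_eq_tensorBi, ← tmap_eq_tensorBi]
  exact pullTensorIso_natural_left f a N

/-- Twisting commutes with multiplication by functions. -/
theorem tmap_comp_scal {M M' : X.Modules} (a : M ⟶ M') (r : Γ(X, ⊤)) (N : X.Modules) :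
    CohFinite.tmap (a ≫ PicBdd.scal r M') N = CohFinite.tmap a N ≫ PicBdd.scal r (CohB1.tensorMod M' N) :=
  TMul.hom_ext fun U m l =>
    (CohFinite.tmap_tm _ N m l).trans ((TMul.smul_tm (resO X le_top r) (a.app U m) l).trans
      (congrArg (fun z => resO X (le_top : U ≤ ⊤) r • z) (CohFinite.tmap_tm a N m l).symm))

end Tensor

end Groth.Agent.PicProp
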